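import Mathlib

/-!
Congruences modulo `(2 ^ n - 1) / e`, where `e` divides `n`, between sums of two powers of two.
-/

set_option autoImplicit false

namespace Cfsg.Agent.Solv.TwoAuto

theorem pow_mod_modEq {n : ℕ} (x : ℕ) : 2 ^ x ≡ 2 ^ (x % n) [MOD 2 ^ n - 1] := by
  conv_lhs => rw [← Nat.div_add_mod x n, pow_add, pow_mul]
  have h : 2 ^ n ≡ 1 [MOD 2 ^ n - 1] :=
    ((Nat.modEq_iff_dvd' Nat.one_le_two_pow).2 dvd_rfl).symm
  simpa using (h.pow (x / n)).mul_right (2 ^ (x % n))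

theorem two_pow_add_inj {a b c d : ℕ} (h : 2 ^ a + 2 ^ b = 2 ^ c + 2 ^ d) :
    (a = c ∧ b = d) ∨ (a = d ∧ b = c) := by
  have main : ∀ {a b c d : ℕ}, a ≤ b → c ≤ d → 2 ^ a + 2 ^ b = 2 ^ c + 2 ^ d → b = d := by
    intro a b c d hab hcd h
    rcases lt_trichotomy b d with hbd | hbd | hbd
    · exfalso
      have h1 : 2 ^ a ≤ 2 ^ b := Nat.pow_le_pow_right (by norm_num) hab
      have h2 : 2 ^ (b + 1) ≤ 2 ^ d := Nat.pow_le_pow_right (by norm_num) hbd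
      have h3 := Nat.one_le_two_pow (n := c)
      rw [pow_succ] at h2
      omega
    · exact hbd
    · exfalso
      have h1 : 2 ^ c ≤ 2 ^ d := Nat.pow_le_pow_right (by norm_num) hcd
      have h2 : 2 ^ (d + 1) ≤ 2 ^ b := Nat.pow_le_pow_right (by norm_num) hbd
      have h3 := Nat.one_le_two_pow (n := a)
      rw [pow_succ] at h2
      omega
  rcases le_total a b with hab | hab <;> rcases le_total c d with hcd | hcd
  · obtain rfl := main hab hcd h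
    exact Or.inl ⟨Nat.pow_right_injective le_rfl (Nat.add_right_cancel h), rfl⟩
  · obtain rfl := main hab hcd (h.trans (add_comm _ _))
    exact Or.inr ⟨Nat.pow_right_injective le_rfl (Nat.add_right_cancel (h.trans (add_comm _ _))), rfl⟩
  · obtain rfl := main hab hcd ((add_comm _ _).trans h)
    exact Or.inr ⟨rfl, Nat.pow_right_injective le_rfl (Nat.add_left_cancel (h.trans (add_comm _ _)))⟩
  · obtain rfl := main hab hcd ((add_comm _ _).trans (h.trans (add_comm _ _)))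
    exact Or.inl ⟨rfl, Nat.pow_right_injective le_rfl (Nat.add_left_cancel h)⟩

/-- Four exponents, one of them zero, leave a long gap. -/
theorem exists_shift {n L a b c : ℕ} (hL : 4 * L + 1 ≤ n) (ha : a < n) (hb : b < n) (hc : c < n) :
    ∃ s, s < n ∧ (a + s) % n < n - L ∧ (b + s) % n < n - L ∧ (c + s) % n < n - L ∧ (0 + s) % n < n - L := by
  rcases Nat.eq_zero_or_pos L with hL0 | hL0
  · refine ⟨0, by omega, ?_, ?_, ?_, ?_⟩ <;>
      simp only [hL0, Nat.sub_zero, add_zero] <;> exact Nat.mod_lt _ (by omega)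
  have hblock : ∀ x : ℕ, x < n → ∀ r r' : ℕ, r * L + 1 ≤ x → x < (r + 1) * L + 1 → r' * L + 1 ≤ x →
      x < (r' + 1) * L + 1 → r = r' := by
    intro x _ r r' h1 h2 h3 h4
    have e1 : r * L < (r' + 1) * L := by omega
    have e2 : r' * L < (r + 1) * L := by omega
    have := Nat.lt_of_mul_lt_mul_right e1
    have := Nat.lt_of_mul_lt_mul_right e2
    omega
  obtain ⟨r, hr, hra, hrb, hrc⟩ : ∃ r < 4, ¬ (r * L + 1 ≤ a ∧ a < (r + 1) * L + 1) ∧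
      ¬ (r * L + 1 ≤ b ∧ b < (r + 1) * L + 1) ∧ ¬ (r * L + 1 ≤ c ∧ c < (r + 1) * L + 1) := by
    by_contra hne
    push Not at hne
    have k : ∀ r < 4, (r * L + 1 ≤ a ∧ a < (r + 1) * L + 1) ∨ (r * L + 1 ≤ b ∧ b < (r + 1) * L + 1) ∨
        (r * L + 1 ≤ c ∧ c < (r + 1) * L + 1) := by
      intro r hr
      by_contra hh
      push Not at hh
      have h3 := hne r hr (fun h => by have := hh.1 h; omega) (fun h => by have := hh.2.1 h; omega)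
      have := hh.2.2 h3.1
      omega
    have k0 := k 0 (by norm_num)
    have k1 := k 1 (by norm_num)
    have k2 := k 2 (by norm_num)
    have k3 := k 3 (by norm_num)
    omega
  have hr4 : (r + 1) * L ≤ 4 * L := Nat.mul_le_mul_right L (by omega)
  have hexp : (r + 1) * L = r * L + L := Nat.succ_mul r L
  have key : ∀ x, x < n → ¬ (r * L + 1 ≤ x ∧ x < (r + 1) * L + 1) →
      (x + (n - ((r + 1) * L + 1))) % n < n - L := by
    intro x hx h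
    by_cases h1 : (r + 1) * L + 1 ≤ x
    · rw [show x + (n - ((r + 1) * L + 1)) = (x - ((r + 1) * L + 1)) + n by omega, Nat.add_mod_right,
        Nat.mod_eq_of_lt (by omega)]
      omega
    · rw [Nat.mod_eq_of_lt (by omega)]
      omega
  exact ⟨n - ((r + 1) * L + 1), by omega, key a ha hra, key b hb hrb, key c hc hrc, key 0 (by omega) (by omega)⟩

theorem small_pairs (n : ℕ) (hn : n < 25) (e : ℕ) (he : e < 25) (h1 : e ∣ n) (h2 : e ∣ 2 ^ n - 1)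
    (hn0 : 2 ≤ n) : n = 2 ∨ n = 3 ∨ n = 4 ∨ n = 6 ∨ (5 ≤ n ∧ e < 2 ^ ((n - 1) / 4)) := by
  have := (by decide +kernel : ∀ n : Fin 25, ∀ e : Fin 25, e.1 ∣ n.1 → e.1 ∣ 2 ^ n.1 - 1 → 2 ≤ n.1 →
    n.1 = 2 ∨ n.1 = 3 ∨ n.1 = 4 ∨ n.1 = 6 ∨ (5 ≤ n.1 ∧ e.1 < 2 ^ ((n.1 - 1) / 4)))
  exact this ⟨n, hn⟩ ⟨e, he⟩ h1 h2 hn0

theorem four_tiny (n : ℕ) (hn : n < 7) (e : ℕ) (he : e < 7) (h1 : e ∣ n) (h2 : e ∣ 2 ^ n - 1) (hn0 : 2 ≤ n)
    (a : ℕ) (ha : a < n) (b : ℕ) (hb : b < n) (c : ℕ) (hc : c < n)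
    (h : (e * (2 ^ a + 2 ^ b)) % (2 ^ n - 1) = (e * (2 ^ c + 1)) % (2 ^ n - 1)) :
    (a = c ∧ b = 0) ∨ (a = 0 ∧ b = c) ∨ (c = (a + b) % n ∧ c ≠ 0) := by
  have := (by decide +kernel : ∀ n : Fin 7, ∀ e : Fin 7, e.1 ∣ n.1 → e.1 ∣ 2 ^ n.1 - 1 → 2 ≤ n.1 →
    ∀ a b c : Fin n.1, (e.1 * (2 ^ a.1 + 2 ^ b.1)) % (2 ^ n.1 - 1) = (e.1 * (2 ^ c.1 + 1)) % (2 ^ n.1 - 1) →
      (a.1 = c.1 ∧ b.1 = 0) ∨ (a.1 = 0 ∧ b.1 = c.1) ∨ (c.1 = (a.1 + b.1) % n.1 ∧ c.1 ≠ 0))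
  exact this ⟨n, hn⟩ ⟨e, he⟩ h1 h2 hn0 ⟨a, ha⟩ ⟨b, hb⟩ ⟨c, hc⟩ h

/-- Sums of two powers of two are told apart modulo `(2 ^ n - 1) / e`, but for `c = a + b`. -/
theorem four_modEq {n e a b c : ℕ} (hn : 2 ≤ n) (hen : e ∣ n) (heM : e ∣ 2 ^ n - 1) (ha : a < n) (hb : b < n)
    (hc : c < n) (h : e * (2 ^ a + 2 ^ b) ≡ e * (2 ^ c + 1) [MOD 2 ^ n - 1]) :
    (a = c ∧ b = 0) ∨ (a = 0 ∧ b = c) ∨ (c = (a + b) % n ∧ c ≠ 0) := by
  have hele : e ≤ n := Nat.le_of_dvd (by omega) hen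
  have he0 : e ≠ 0 := fun h0 => by
    rw [h0, zero_dvd_iff] at hen
    omega
  by_cases hn7 : n < 7
  · exact four_tiny n hn7 e (by omega) hen heM hn a ha b hb c hc h
  obtain ⟨L, hL, heL⟩ : ∃ L, 4 * L + 1 ≤ n ∧ e < 2 ^ L := by
    refine ⟨(n - 1) / 4, by omega, ?_⟩
    by_cases hn25 : n < 25
    · rcases small_pairs n hn25 e (by omega) hen heM hn with h | h | h | h | ⟨-, h⟩
      all_goals omega
    · have h6 : ∀ L, 6 ≤ L → 4 * L + 4 < 2 ^ L := by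
        intro L hL
        induction L, hL using Nat.le_induction with
        | base => norm_num
        | succ L hL ih => rw [pow_succ]; omega
      have := h6 ((n - 1) / 4) (by omega)
      omega
  obtain ⟨s, hs, sa, sb, sc, s0⟩ := exists_shift hL ha hb hc
  have hshift : ∀ x : ℕ, e * 2 ^ x * 2 ^ s ≡ e * 2 ^ ((x + s) % n) [MOD 2 ^ n - 1] := fun x => by
    rw [mul_assoc, ← pow_add]
    exact (pow_mod_modEq (x + s)).mul_left e
  have h2 : e * (2 ^ ((a + s) % n) + 2 ^ ((b + s) % n)) ≡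
      e * (2 ^ ((c + s) % n) + 2 ^ ((0 + s) % n)) [MOD 2 ^ n - 1] := by
    have h1 := h.mul_right (2 ^ s)
    rw [mul_add, mul_add, add_mul, add_mul] at h1
    rw [mul_add, mul_add]
    have h0 := hshift 0
    rw [pow_zero] at h0
    exact (((hshift a).symm.add (hshift b).symm).trans h1).trans ((hshift c).add h0)
  have hlt : ∀ x y, x < n - L → y < n - L → e * (2 ^ x + 2 ^ y) < 2 ^ n - 1 := by
    intro x y hx hy
    have h1 : 2 ^ x + 2 ^ y ≤ 2 ^ (n - L) := by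
      obtain ⟨m, hm⟩ : ∃ m, n - L = m + 1 := ⟨n - L - 1, by omega⟩
      rw [hm] at hx hy ⊢
      have := Nat.pow_le_pow_right (show 0 < 2 by norm_num) (show x ≤ m by omega)
      have := Nat.pow_le_pow_right (show 0 < 2 by norm_num) (show y ≤ m by omega)
      rw [pow_succ]
      omega
    have h2 : (e + 1) * 2 ^ (n - L) ≤ 2 ^ L * 2 ^ (n - L) := Nat.mul_le_mul_right _ heL
    rw [← pow_add, show L + (n - L) = n by omega, Nat.succ_mul] at h2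
    have h3 : 2 ≤ 2 ^ (n - L) := by
      calc (2 : ℕ) = 2 ^ 1 := (pow_one 2).symm
        _ ≤ 2 ^ (n - L) := Nat.pow_le_pow_right (by norm_num) (by omega)
    have h4 : e * (2 ^ x + 2 ^ y) ≤ e * 2 ^ (n - L) := Nat.mul_le_mul_left e h1
    omega
  have h3 := Nat.eq_of_mul_eq_mul_left (Nat.pos_of_ne_zero he0)
    (Nat.ModEq.eq_of_lt_of_lt h2 (hlt _ _ sa sb) (hlt _ _ sc s0))
  have hinj : ∀ x y, x < n → y < n → (x + s) % n = (y + s) % n → x = y := fun x y hx hy hxy =>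
    Nat.ModEq.eq_of_lt_of_lt (Nat.ModEq.add_right_cancel' s hxy) hx hy
  rcases two_pow_add_inj h3 with ⟨h4, h5⟩ | ⟨h4, h5⟩
  · exact Or.inl ⟨hinj _ _ ha hc h4, hinj _ _ hb (by omega) h5⟩
  · exact Or.inr (Or.inl ⟨hinj _ _ ha (by omega) h4, hinj _ _ hb hc h5⟩)

/-- One side of a cross term. -/
def CrossSide (n e σ τ : ℕ) : Prop :=
  (τ + n - σ) % n = 1 ∨ 2 ^ n - 1 ∣ e * ((2 ^ σ - 1) * (2 ^ ((τ + n - σ) % n - 1) - 1))

theorem cross_small (n : ℕ) (hn : n < 25) (e : ℕ) (he : e < 25) (h1 : e ∣ n) (h2 : e ∣ 2 ^ n - 1) (hn0 : 3 ≤ n)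
    (σ : ℕ) (hσ : σ < n) (τ : ℕ) (hτ : τ < n) (hσ0 : 1 ≤ σ) (hτ0 : 1 ≤ τ) (hne : σ ≠ τ)
    (h : CrossSide n e σ τ) (h' : CrossSide n e τ σ) :
    n = 6 ∧ e = 3 ∧ ((σ = 3 ∧ τ = 2) ∨ (σ = 2 ∧ τ = 3)) := by
  have := (by decide +kernel : ∀ n : Fin 25, ∀ e : Fin 25, e.1 ∣ n.1 → e.1 ∣ 2 ^ n.1 - 1 → 3 ≤ n.1 →
    ∀ σ τ : Fin n.1, 1 ≤ σ.1 → 1 ≤ τ.1 → σ.1 ≠ τ.1 →
    ((τ.1 + n.1 - σ.1) % n.1 = 1 ∨
      (e.1 * ((2 ^ σ.1 - 1) * (2 ^ ((τ.1 + n.1 - σ.1) % n.1 - 1) - 1))) % (2 ^ n.1 - 1) = 0) →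
    ((σ.1 + n.1 - τ.1) % n.1 = 1 ∨
      (e.1 * ((2 ^ τ.1 - 1) * (2 ^ ((σ.1 + n.1 - τ.1) % n.1 - 1) - 1))) % (2 ^ n.1 - 1) = 0) →
    n.1 = 6 ∧ e.1 = 3 ∧ ((σ.1 = 3 ∧ τ.1 = 2) ∨ (σ.1 = 2 ∧ τ.1 = 3)))
  exact this ⟨n, hn⟩ ⟨e, he⟩ h1 h2 hn0 ⟨σ, hσ⟩ ⟨τ, hτ⟩ hσ0 hτ0 hne (h.imp_right Nat.mod_eq_zero_of_dvd)
    (h'.imp_right Nat.mod_eq_zero_of_dvd)

theorem cross_large {n e σ k : ℕ} (hn : 25 ≤ n) (hen : e ∣ n) (hσ : σ < n) (hσ0 : σ ≠ 0) (hk : k < n)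
    (hk0 : k ≠ 0) (h : 2 ^ n - 1 ∣ e * ((2 ^ σ - 1) * (2 ^ k - 1))) : False := by
  have hele : e ≤ n := Nat.le_of_dvd (by omega) hen
  have he0 : e ≠ 0 := fun h0 => by
    rw [h0, zero_dvd_iff] at hen
    omega
  obtain ⟨M, hM⟩ : ∃ M, M = 2 ^ n - 1 := ⟨_, rfl⟩
  have hg : ∀ x, Nat.gcd M (2 ^ x - 1) = 2 ^ Nat.gcd n x - 1 := fun x => by
    rw [hM]; exact Nat.pow_sub_one_gcd_pow_sub_one 2 n x
  have h1 : M ∣ e * ((2 ^ Nat.gcd n σ - 1) * (2 ^ Nat.gcd n k - 1)) := by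
    rw [← hg σ, ← hg k]
    rw [← hM] at h
    calc M = Nat.gcd M (e * ((2 ^ σ - 1) * (2 ^ k - 1))) := (Nat.gcd_eq_left h).symm
      _ ∣ Nat.gcd M e * Nat.gcd M ((2 ^ σ - 1) * (2 ^ k - 1)) := Nat.gcd_mul_right_dvd_mul_gcd _ _ _
      _ ∣ e * (Nat.gcd M (2 ^ σ - 1) * Nat.gcd M (2 ^ k - 1)) :=
        mul_dvd_mul (Nat.gcd_dvd_right _ _) (Nat.gcd_mul_right_dvd_mul_gcd _ _ _)
  have prop : ∀ x, x < n → x ≠ 0 → 2 * Nat.gcd n x = n ∨ 3 * Nat.gcd n x ≤ n := by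
    intro x hx hx0
    obtain ⟨q, hq⟩ := Nat.gcd_dvd_left n x
    have h2 : Nat.gcd n x ≤ x := Nat.gcd_le_right n (Nat.pos_of_ne_zero hx0)
    rcases Nat.lt_or_ge q 3 with hq3 | hq3
    · interval_cases q
      · omega
      · omega
      · left; omega
    · right
      have := Nat.mul_le_mul_left (Nat.gcd n x) hq3
      omega
  have ha0 : 1 ≤ Nat.gcd n σ := Nat.gcd_pos_of_pos_left σ (by omega)
  have hb0 : 1 ≤ Nat.gcd n k := Nat.gcd_pos_of_pos_left k (by omega)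
  generalize ha : Nat.gcd n σ = a at h1 ha0
  generalize hb : Nat.gcd n k = b at h1 hb0
  have pa := prop σ hσ hσ0
  have pb := prop k hk hk0
  rw [ha] at pa
  rw [hb] at pb
  have hpow : ∀ j, 1 ≤ j → 2 ≤ 2 ^ j := fun j hj => by
    calc (2 : ℕ) = 2 ^ 1 := (pow_one 2).symm
      _ ≤ 2 ^ j := Nat.pow_le_pow_right (by norm_num) hj
  by_cases hh : 2 * a = n ∧ 2 * b = n
  · have hab : a = b := by omega
    subst hab
    have hfac : M = (2 ^ a + 1) * (2 ^ a - 1) := by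
      rw [hM, show n = a + a by omega, pow_add]
      have h := Nat.sq_sub_sq (2 ^ a) 1
      rw [sq, one_pow] at h
      exact h
    rw [hfac, ← mul_assoc] at h1
    have hpos := hpow a ha0
    have hd : 2 ^ a + 1 ∣ e * (2 ^ a - 1) := Nat.dvd_of_mul_dvd_mul_right (by omega) h1
    have hco : Nat.Coprime (2 ^ a + 1) (2 ^ a - 1) := by
      rw [Nat.coprime_iff_gcd_eq_one]
      have he2 : Nat.gcd (2 ^ a + 1) (2 ^ a - 1) ∣ 2 := by
        have := Nat.dvd_sub (Nat.gcd_dvd_left (2 ^ a + 1) (2 ^ a - 1)) (Nat.gcd_dvd_right (2 ^ a + 1) (2 ^ a - 1))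
        rwa [show 2 ^ a + 1 - (2 ^ a - 1) = 2 by omega] at this
      rcases (Nat.dvd_prime Nat.prime_two).1 he2 with h2 | h2
      · exact h2
      · exfalso
        have := h2 ▸ Nat.gcd_dvd_left (2 ^ a + 1) (2 ^ a - 1)
        obtain ⟨j, rfl⟩ : ∃ j, a = j + 1 := ⟨a - 1, by omega⟩
        rw [pow_succ] at this
        omega
    have h3 := Nat.le_of_dvd (Nat.pos_of_ne_zero he0) (hco.dvd_of_dvd_mul_right hd)
    have h4 : ∀ j, 5 ≤ j → 2 * j < 2 ^ j := by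
      intro j hj
      induction j, hj using Nat.le_induction with
      | base => norm_num
      | succ j hj ih => rw [pow_succ]; omega
    have := h4 a (by omega)
    omega
  · obtain ⟨d, hd⟩ : ∃ d, n = a + b + d := ⟨n - (a + b), by omega⟩
    have hd5 : 5 ≤ d ∧ n ≤ 6 * d := by omega
    have h4 : ∀ j, 5 ≤ j → 6 * j ≤ 2 ^ j := by
      intro j hj
      induction j, hj using Nat.le_induction with
      | base => norm_num
      | succ j hj ih => rw [pow_succ]; omega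
    have h5 := h4 d hd5.1
    have hA := hpow a ha0
    have hB := hpow b hb0
    have hpa : 0 < (2 ^ a - 1) * (2 ^ b - 1) := Nat.mul_pos (by omega) (by omega)
    have h6 := Nat.le_of_dvd (Nat.mul_pos (Nat.pos_of_ne_zero he0) hpa) h1
    have h7 : (2 ^ a - 1) * (2 ^ b - 1) + 1 < 2 ^ a * 2 ^ b := by
      obtain ⟨A, hA'⟩ : ∃ A, 2 ^ a = A + 2 := ⟨2 ^ a - 2, by omega⟩
      obtain ⟨B, hB'⟩ : ∃ B, 2 ^ b = B + 2 := ⟨2 ^ b - 2, by omega⟩
      rw [hA', hB', show A + 2 - 1 = A + 1 by omega, show B + 2 - 1 = B + 1 by omega]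
      ring_nf
      omega
    have h8 : e * ((2 ^ a - 1) * (2 ^ b - 1) + 1) ≤ 2 ^ d * (2 ^ a * 2 ^ b) :=
      Nat.mul_le_mul (by omega) h7.le
    have h9 : 2 ^ d * (2 ^ a * 2 ^ b) = 2 ^ n := by rw [hd, pow_add, pow_add]; ring
    have h10 : e * ((2 ^ a - 1) * (2 ^ b - 1) + 1) < 2 ^ d * (2 ^ a * 2 ^ b) :=
      Nat.mul_lt_mul_of_le_of_lt (by omega) h7 (Nat.two_pow_pos d)
    rw [mul_add, mul_one, h9] at h10
    omega

/-- The only surviving cross term. -/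
theorem cross_cases {n e σ τ : ℕ} (hn : 3 ≤ n) (hen : e ∣ n) (heM : e ∣ 2 ^ n - 1) (hσ : σ < n) (hτ : τ < n)
    (hσ0 : σ ≠ 0) (hτ0 : τ ≠ 0) (hne : σ ≠ τ) (h : CrossSide n e σ τ) (h' : CrossSide n e τ σ) :
    n = 6 ∧ e = 3 ∧ ((σ = 3 ∧ τ = 2) ∨ (σ = 2 ∧ τ = 3)) := by
  have hele : e ≤ n := Nat.le_of_dvd (by omega) hen
  by_cases hn25 : n < 25
  · exact cross_small n hn25 e (by omega) hen heM hn σ hσ τ hτ (by omega) (by omega) hne h h'
  exfalso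
  have hm : (τ + n - σ) % n = if σ ≤ τ then τ - σ else τ + n - σ := by
    split_ifs with hle
    · rw [show τ + n - σ = τ - σ + n by omega, Nat.add_mod_right, Nat.mod_eq_of_lt (by omega)]
    · exact Nat.mod_eq_of_lt (by omega)
  have hm' : (σ + n - τ) % n = if τ ≤ σ then σ - τ else σ + n - τ := by
    split_ifs with hle
    · rw [show σ + n - τ = σ - τ + n by omega, Nat.add_mod_right, Nat.mod_eq_of_lt (by omega)]
    · exact Nat.mod_eq_of_lt (by omega)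
  rcases h with h | h
  · rcases h' with h' | h'
    · split_ifs at hm hm' <;> omega
    · refine cross_large (by omega) hen hτ hτ0 (Nat.lt_of_le_of_lt (Nat.sub_le _ _) (Nat.mod_lt _ (by omega))) ?_ h'
      split_ifs at hm hm' <;> omega
  · by_cases h1 : (τ + n - σ) % n = 1
    · rcases h' with h' | h'
      · split_ifs at hm hm' <;> omega
      · refine cross_large (by omega) hen hτ hτ0 (Nat.lt_of_le_of_lt (Nat.sub_le _ _) (Nat.mod_lt _ (by omega))) ?_ h'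
        split_ifs at hm hm' <;> omega
    · refine cross_large (by omega) hen hσ hσ0 (Nat.lt_of_le_of_lt (Nat.sub_le _ _) (Nat.mod_lt _ (by omega))) ?_ h
      split_ifs at hm hm' <;> omega

end Cfsg.Agent.Solv.TwoAuto
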