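import Cfsg.Agent.Lib.Char.SuzukiField
import Cfsg.Agent.Lib.Solv.TwoAuto.Number

/-!
Equivariant biadditive and quadratic data over a field with `2 ^ n` elements, for a scalar group of
index dividing `n` in the multiplicative group.
-/

set_option autoImplicit false

namespace Cfsg.Agent.Solv.TwoAuto

open Cfsg.Agent.Char

theorem zmod_two_cases : ∀ a : ZMod 2, a = 0 ∨ a = 1 := by decide

variable {F : Type*} [Field F] [Fintype F] [CharP F 2] {n e : ℕ}

theorem modEq_of_pow_eq {c : Fˣ} (hc : e * orderOf c = 2 ^ n - 1) {A B : ℕ} (h : (c : F) ^ A = (c : F) ^ B) :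
    e * A ≡ e * B [MOD 2 ^ n - 1] := by
  have h1 : c ^ A = c ^ B := Units.ext (by simpa using h)
  rw [← hc]
  exact (pow_eq_pow_iff_modEq.1 h1).mul_left' e

/-- An equivariant alternating biadditive map vanishes. -/
theorem pairing_zero (hF : Fintype.card F = 2 ^ n) (hn : 2 ≤ n) (hen : e ∣ n) (c : Fˣ)
    (hc : e * orderOf c = 2 ^ n - 1) (b : F → F → F) (hl : ∀ u u' v, b (u + u') v = b u v + b u' v)
    (hr : ∀ u v v', b u (v + v') = b u v + b u v') (heq : ∀ u v, b ((c : F) * u) ((c : F) * v) = (c : F) * b u v)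
    (hd : ∀ u, b u u = 0) : ∀ u v, b u v = 0 := by
  classical
  have hn0 : n ≠ 0 := by omega
  have hex : ∀ v, ∃ w : ℕ → F, ∀ u, b u v = ∑ i ∈ Finset.range n, w i * u ^ 2 ^ i := fun v =>
    SuzukiField.frob_expand hn0 hF (AddMonoidHom.mk' (fun u => b u v) (fun u u' => hl u u' v))
  choose W hW using hex
  have hWadd : ∀ v v', ∀ i < n, W (v + v') i = W v i + W v' i := by
    intro v v' i hi
    have := SuzukiField.frob_indep hF (fun j => W (v + v') j - (W v j + W v' j)) (fun u => by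
      simp only [sub_mul, add_mul, Finset.sum_sub_distrib, Finset.sum_add_distrib, ← hW, hr, sub_self]) i hi
    exact sub_eq_zero.1 this
  have hex2 : ∀ i : Fin n, ∃ w : ℕ → F, ∀ v, W v i = ∑ j ∈ Finset.range n, w j * v ^ 2 ^ j := fun i =>
    SuzukiField.frob_expand hn0 hF (AddMonoidHom.mk' (fun v => W v i) (fun v v' => hWadd v v' i i.2))
  choose B hB using hex2
  let m := n - 1
  have hm : m < n := by omega
  have hzero : ∀ i : Fin n, ∀ j < n, B i j ≠ 0 → i.1 = m ∧ j = m := by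
    intro i j hj hne
    have heqi : ∀ v, W ((c : F) * v) i * (c : F) ^ 2 ^ i.1 = (c : F) * W v i := by
      intro v
      have := SuzukiField.frob_indep hF (fun k => W ((c : F) * v) k * (c : F) ^ 2 ^ k - (c : F) * W v k) (fun u => by
        simp only [sub_mul, Finset.sum_sub_distrib]
        rw [sub_eq_zero]
        calc ∑ k ∈ Finset.range n, W ((c : F) * v) k * (c : F) ^ 2 ^ k * u ^ 2 ^ k
            = b ((c : F) * u) ((c : F) * v) := by
              rw [hW]
              exact Finset.sum_congr rfl fun k _ => by rw [mul_pow]; ring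
          _ = _ := by
              rw [heq, hW, Finset.mul_sum]
              exact Finset.sum_congr rfl fun k _ => by ring) i.1 i.2
      exact sub_eq_zero.1 this
    have hcoef := SuzukiField.frob_indep hF
      (fun k => B i k * (c : F) ^ 2 ^ k * (c : F) ^ 2 ^ i.1 - (c : F) * B i k) (fun v => by
        simp only [sub_mul, Finset.sum_sub_distrib]
        rw [sub_eq_zero]
        calc ∑ k ∈ Finset.range n, B i k * (c : F) ^ 2 ^ k * (c : F) ^ 2 ^ i.1 * v ^ 2 ^ k
            = W ((c : F) * v) i * (c : F) ^ 2 ^ i.1 := by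
              rw [hB, Finset.sum_mul]
              exact Finset.sum_congr rfl fun k _ => by rw [mul_pow]; ring
          _ = _ := by
              rw [heqi, hB, Finset.mul_sum]
              exact Finset.sum_congr rfl fun k _ => by ring) j hj
    have hce : (c : F) ^ (2 ^ j + 2 ^ i.1) = (c : F) ^ (1 : ℕ) := by
      rw [pow_add, pow_one]
      refine mul_left_cancel₀ hne ?_
      rw [sub_eq_zero] at hcoef
      linear_combination hcoef
    have h1 := (modEq_of_pow_eq hc hce).mul_right 2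
    have hs : ∀ x, x < n → e * 2 ^ x * 2 ≡ e * 2 ^ ((x + 1) % n) [MOD 2 ^ n - 1] := fun x _ => by
      rw [mul_assoc, ← pow_succ]
      exact (pow_mod_modEq (x + 1)).mul_left e
    have h2 : e * (2 ^ ((j + 1) % n) + 2 ^ ((i.1 + 1) % n)) ≡ e * (2 ^ 0 + 1) [MOD 2 ^ n - 1] := by
      rw [mul_add, add_mul] at h1
      rw [mul_add]
      refine (((hs j hj).symm.add (hs i.1 i.2).symm).trans h1).trans ?_
      rw [pow_zero, mul_one, mul_two, mul_add, mul_one]
    have hwrap : ∀ x, x < n → (x + 1) % n = 0 → x = m := by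
      intro x hx h0
      by_contra hne'
      rw [Nat.mod_eq_of_lt (by omega)] at h0
      omega
    rcases four_modEq hn hen ⟨_, hc.symm⟩ (Nat.mod_lt _ (by omega)) (Nat.mod_lt _ (by omega)) (by omega) h2 with
      ⟨p, q⟩ | ⟨p, q⟩ | ⟨-, q⟩
    · exact ⟨hwrap _ i.2 q, hwrap _ hj p⟩
    · exact ⟨hwrap _ i.2 q, hwrap _ hj p⟩
    · exact absurd rfl q
  have hform : ∀ u v, b u v = B ⟨m, hm⟩ m * v ^ 2 ^ m * u ^ 2 ^ m := by
    intro u v
    rw [hW, Finset.sum_eq_single m]
    · rw [show W v m = W v (⟨m, hm⟩ : Fin n) from rfl, hB, Finset.sum_eq_single m]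
      · intro j hj hjm
        rw [show B ⟨m, hm⟩ j = 0 from Classical.byContradiction fun h =>
          hjm (hzero _ j (Finset.mem_range.1 hj) h).2, zero_mul]
      · intro h; exact absurd (Finset.mem_range.2 hm) h
    · intro i hi him
      have hi' := Finset.mem_range.1 hi
      have hWz : W v (⟨i, hi'⟩ : Fin n) = 0 := by
        rw [hB]
        refine Finset.sum_eq_zero fun j hj => ?_
        rw [show B ⟨i, hi'⟩ j = 0 from Classical.byContradiction fun h =>
          him (hzero _ j (Finset.mem_range.1 hj) h).1, zero_mul]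
      rw [show W v i = 0 from hWz, zero_mul]
    · intro h; exact absurd (Finset.mem_range.2 hm) h
  have hB0 : B ⟨m, hm⟩ m = 0 := by
    have := hd 1
    rw [hform, one_pow, mul_one, mul_one] at this
    exact this
  intro u v
  rw [hform, hB0, zero_mul, zero_mul]

/-- The eigenvalues on the coefficient spaces are told apart by polynomials over the prime field. -/
theorem projection_index (hF : Fintype.card F = 2 ^ n) (hn : 2 ≤ n) (hen : e ∣ n) (c : Fˣ)
    (hc : e * orderOf c = 2 ^ n - 1) (R : AddSubgroup (Fin n → F))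
    (hR : ∀ w ∈ R, (fun i : Fin n => (c : F) * ((c : F) ^ 2 ^ i.1)⁻¹ * w i) ∈ R) :
    ∀ w ∈ R, ∀ σ : Fin n, (fun i => if i = σ then w σ else 0) ∈ R := by
  classical
  haveI : Fact (Nat.Prime 2) := ⟨Nat.prime_two⟩
  letI : Algebra (ZMod 2) F := ZMod.algebra F 2
  haveI : Module.Finite (ZMod 2) F := Module.Finite.of_finite
  haveI : Module.Free (ZMod 2) F := Module.Free.of_divisionRing (ZMod 2) F
  let lam : Fin n → F := fun i => (c : F) * ((c : F) ^ 2 ^ i.1)⁻¹
  have happly : ∀ (p : Polynomial (ZMod 2)), ∀ w ∈ R, (fun i => Polynomial.aeval (lam i) p * w i) ∈ R := by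
    intro p
    induction p using Polynomial.induction_on' with
    | add p q hp hq =>
      intro w hw
      simp only [map_add, add_mul]
      exact add_mem (hp w hw) (hq w hw)
    | monomial k a =>
      intro w hw
      simp only [Polynomial.aeval_monomial]
      have hk : ∀ k : ℕ, (fun i => lam i ^ k * w i) ∈ R := by
        intro k
        induction k with
        | zero => simpa using hw
        | succ k ih =>
          have := hR _ ih
          convert this using 1
          funext i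
          simp only [lam, pow_succ]
          ring
      have ha : a = 0 ∨ a = 1 := zmod_two_cases a
      rcases ha with rfl | rfl
      · simp only [map_zero, zero_mul]; exact zero_mem R
      · simp only [map_one, one_mul]; exact hk k
  have hsep : ∀ σ τ : Fin n, σ ≠ τ → Polynomial.aeval (lam σ) (minpoly (ZMod 2) (lam τ)) ≠ 0 := by
    intro σ τ hne h
    have hint : IsIntegral (ZMod 2) (lam τ) := Algebra.IsIntegral.isIntegral _
    have hmin : minpoly (ZMod 2) (lam τ) = minpoly (ZMod 2) (lam σ) :=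
      minpoly.eq_of_irreducible_of_monic (minpoly.irreducible hint) h (minpoly.monic hint)
    obtain ⟨f, hf⟩ := isConjRoot_iff_exists_algEquiv.1 (show IsConjRoot (ZMod 2) (lam σ) (lam τ) from hmin.symm)
    obtain ⟨k, hk⟩ := (FiniteField.bijective_frobeniusAlgEquivOfAlgebraic_pow (ZMod 2) F).2 f
    have hk' : ∀ x : F, f x = x ^ 2 ^ (k : ℕ) := fun x => by
      rw [← hk]
      show (FiniteField.frobeniusAlgEquivOfAlgebraic (ZMod 2) F ^ (k : ℕ)) x = _
      rw [AlgEquiv.coe_pow, FiniteField.coe_frobeniusAlgEquivOfAlgebraic_iterate, Fintype.card_eq_nat_card, Nat.card_zmod]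
    rw [hk'] at hf
    simp only [lam, mul_pow, inv_pow, ← pow_mul, ← pow_add] at hf
    have hceq : (c : F) ^ (2 ^ (k : ℕ) + 2 ^ σ.1) = (c : F) ^ (2 ^ (((τ.1 + k) % n)) + 1) := by
      rw [pow_add, pow_add, pow_one, ← SuzukiField.pow_mod' hF]
      have h1 : (c : F) ≠ 0 := c.ne_zero
      field_simp at hf
      linear_combination hf
    have hk2 : e * (2 ^ ((k : ℕ) % n) + 2 ^ σ.1) ≡ e * (2 ^ ((τ.1 + k) % n) + 1) [MOD 2 ^ n - 1] := by
      refine ((pow_mod_modEq (k : ℕ)).add_right _ |>.mul_left e).symm.trans ?_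
      exact modEq_of_pow_eq hc hceq
    rcases four_modEq hn hen ⟨_, hc.symm⟩ (Nat.mod_lt _ (by omega)) σ.2 (Nat.mod_lt _ (by omega)) hk2 with
      ⟨p, q⟩ | ⟨p, q⟩ | ⟨p, -⟩
    · refine hne (Fin.ext ?_)
      have hτ : τ.1 = 0 := by
        have : (0 + (k : ℕ)) % n = (τ.1 + k) % n := by rw [zero_add]; exact p
        exact (Nat.ModEq.eq_of_lt_of_lt (Nat.ModEq.add_right_cancel' _ this) (by omega) τ.2).symm
      rw [q, hτ]
    · refine hne (Fin.ext ?_)
      rw [q, Nat.add_mod, p, add_zero, Nat.mod_mod, Nat.mod_eq_of_lt τ.2]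
    · refine hne (Fin.ext ?_)
      have : (σ.1 + (k : ℕ)) % n = (τ.1 + k) % n := by
        rw [p, Nat.add_mod ((k : ℕ) % n), Nat.mod_mod, ← Nat.add_mod, add_comm]
      exact Nat.ModEq.eq_of_lt_of_lt (Nat.ModEq.add_right_cancel' _ this) σ.2 τ.2
  intro w hw σ
  let q : Polynomial (ZMod 2) := ∏ τ ∈ Finset.univ.erase σ, minpoly (ZMod 2) (lam τ)
  have hp := happly (q ^ (Fintype.card F - 1)) w hw
  convert hp using 1
  funext i
  rw [map_pow]
  by_cases hi : i = σ
  · subst hi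
    rw [if_pos rfl, FiniteField.pow_card_sub_one_eq_one]
    · rw [one_mul]
    · simp only [q, map_prod]
      exact Finset.prod_ne_zero_iff.2 fun τ hτ => hsep i τ (Finset.ne_of_mem_erase hτ).symm
  · rw [if_neg hi, show Polynomial.aeval (lam i) q = 0 by
      simp only [q, map_prod]
      exact Finset.prod_eq_zero (Finset.mem_erase.2 ⟨hi, Finset.mem_univ i⟩) (minpoly.aeval _ _),
      zero_pow (by rw [hF]; have := Nat.pow_le_pow_right (show 0 < 2 by norm_num) (show 1 ≤ n by omega); omega),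
      zero_mul]

/-- A non-zero value of a cross term confines one of its arguments to a line over a subfield. -/
theorem cross_line (hF : Fintype.card F = 2 ^ n) {σ τ : ℕ} (hσ : σ < n) (hτ : τ < n) (hne : σ ≠ τ)
    (U : AddSubgroup F) (C : F → F) (hadd : ∀ u ∈ U, ∀ u' ∈ U, C (u + u') = C u + C u') {v u0 : F}
    (heq : ∀ u ∈ U, u * C u ^ 2 ^ σ = v * C u ^ 2 ^ τ) (hu0 : u0 ∈ U) (hz : C u0 ≠ 0) :
    ∀ u ∈ U, (u / u0) ^ 2 ^ ((τ + n - σ) % n - 1) = u / u0 := by
  set m := (τ + n - σ) % n with hm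
  have hm1 : 1 ≤ m := by
    rw [hm, Nat.one_le_iff_ne_zero]
    intro h0
    rcases Nat.lt_or_ge τ σ with h | h
    · rw [Nat.mod_eq_of_lt (by omega)] at h0; omega
    · rw [show τ + n - σ = τ - σ + n by omega, Nat.add_mod_right, Nat.mod_eq_of_lt (by omega)] at h0
      omega
  have hτm : ∀ z : F, z ^ 2 ^ τ = (z ^ 2 ^ m) ^ 2 ^ σ := by
    intro z
    rw [← pow_mul, ← pow_add, SuzukiField.pow_mod' hF z (m + σ)]
    congr 2
    rw [hm, Nat.mod_add_mod, show τ + n - σ + σ = τ + n by omega, Nat.add_mod_right, Nat.mod_eq_of_lt hτ]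
  have hsur : Function.Surjective fun t : F => t ^ 2 ^ σ :=
    Finite.injective_iff_surjective.1 (SuzukiField.pow_two_inj σ)
  intro u hu
  obtain ⟨u', hu'⟩ := hsur u
  obtain ⟨v', hv'⟩ := hsur v
  obtain ⟨a, ha⟩ := hsur u0
  simp only at hu' hv' ha
  have lin : ∀ {x x' : F}, x ∈ U → x' ^ 2 ^ σ = x → x' * C x = v' * C x ^ 2 ^ m := by
    intro x x' hx hx'
    apply SuzukiField.pow_two_inj (F := F) σ
    show (x' * C x) ^ 2 ^ σ = (v' * C x ^ 2 ^ m) ^ 2 ^ σ
    rw [mul_pow, mul_pow, hx', hv', ← hτm]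
    exact heq x hx
  have hsum : (u' + a) ^ 2 ^ σ = u + u0 := by rw [SuzukiField.add_pow', hu', ha]
  have e1 := lin hu hu'
  have e2 := lin hu0 ha
  have e3 := lin (add_mem hu hu0) hsum
  rw [hadd u hu u0 hu0, SuzukiField.add_pow'] at e3
  have e4 : u' * C u0 = a * C u := by
    rw [← CharTwo.add_eq_zero]
    linear_combination e3 - e1 - e2
  have ha0 : a ≠ 0 := by
    rintro rfl
    refine hz ?_
    rw [zero_pow (by positivity)] at ha
    subst ha
    have := hadd 0 (zero_mem U) 0 (zero_mem U)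
    rw [add_zero] at this
    exact left_eq_add.1 this
  set r := C u / C u0 with hr
  have hra : u' = r * a := by
    rw [hr, div_mul_eq_mul_div, eq_div_iff hz]
    linear_combination e4
  have hv0 : v' ≠ 0 := fun h => by rw [h, zero_mul] at e2; exact mul_ne_zero ha0 hz e2
  have hrr : (r ^ 2 ^ (m - 1)) ^ 2 = r ^ 2 := by
    rw [← pow_mul, ← pow_succ, show m - 1 + 1 = m by omega]
    have hCu : C u = r * C u0 := by rw [hr, div_mul_cancel₀ _ hz]
    rw [hra, hCu, mul_pow] at e1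
    refine mul_left_cancel₀ (mul_ne_zero hv0 (pow_ne_zero (2 ^ m) hz)) ?_
    linear_combination r ^ 2 * e2 - e1
  have hrfix : r ^ 2 ^ (m - 1) = r := CharTwo.sq_inj.1 hrr
  have hu0' : u / u0 = r ^ 2 ^ σ := by
    rw [← hu', ← ha, hra, mul_pow, mul_div_assoc, div_self (pow_ne_zero _ ha0), mul_one]
  rw [hu0', ← pow_mul, mul_comm, pow_mul, hrfix]

theorem side_of_line {σ τ : ℕ} (c : Fˣ) (hc : e * orderOf c = 2 ^ n - 1) (U : AddSubgroup F) {u0 : F}
    (hu0 : u0 ≠ 0) (hu0U : u0 ∈ U) (hUc : ∀ u ∈ U, (c : F) * ((c : F) ^ 2 ^ σ)⁻¹ * u ∈ U)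
    (hline : ∀ u ∈ U, (u / u0) ^ 2 ^ ((τ + n - σ) % n - 1) = u / u0) : CrossSide n e σ τ := by
  set l := (τ + n - σ) % n - 1
  right
  have h := hline _ (hUc u0 hu0U)
  rw [mul_div_assoc, div_self hu0, mul_one] at h
  have h' : ((c ^ (2 ^ σ - 1))⁻¹ : Fˣ) ^ (2 ^ l - 1) = 1 := by
    have hx : (c : F) * ((c : F) ^ 2 ^ σ)⁻¹ = (((c ^ (2 ^ σ - 1))⁻¹ : Fˣ) : F) := by
      rw [pow_sub c Nat.one_le_two_pow, pow_one, mul_inv_rev, inv_inv]
      push_cast
      ring
    rw [hx, ← Units.val_pow_eq_pow_val] at h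
    have h2 := Units.ext h
    rw [pow_sub _ Nat.one_le_two_pow, pow_one, h2, mul_inv_cancel]
  rw [inv_pow, inv_eq_one, ← pow_mul] at h'
  rw [← hc]
  exact mul_dvd_mul_left e (orderOf_dvd_of_pow_eq_one h')

/-- With a Galois twist the remaining line is impossible. -/
theorem twist_absurd (hF : Fintype.card F = 2 ^ 6) (U : AddSubgroup F) {u0 a : F} (hu0 : u0 ≠ 0) (hu0U : u0 ∈ U)
    (hline : ∀ u ∈ U, (u / u0) ^ 2 ^ 4 = u / u0) (ha : a ≠ 0) (ha21 : a ^ 21 ≠ 1) {i : ℕ}
    (hi : i = 0 ∨ i = 2 ∨ i = 4) (hU : ∀ u ∈ U, a * (a ^ 2 ^ 3)⁻¹ * u ^ 2 ^ i ∈ U) : False := by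
  have h63 : ∀ x : F, x ≠ 0 → x ^ 63 = 1 := fun x hx => by
    have := FiniteField.pow_card_sub_one_eq_one x hx
    rwa [hF] at this
  set x := a * (a ^ 2 ^ 3)⁻¹ * u0 ^ 2 ^ i / u0 with hx
  have hx0 : x ≠ 0 := div_ne_zero (mul_ne_zero (mul_ne_zero ha (inv_ne_zero (pow_ne_zero _ ha))) (pow_ne_zero _ hu0)) hu0
  have hxline : x ^ 16 = x := hline _ (hU u0 hu0U)
  have h15 : x ^ 15 = 1 := mul_left_cancel₀ hx0 (by rw [← pow_succ', mul_one]; exact hxline)
  have h3 : x ^ 21 = 1 := by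
    have : x ^ 3 = 1 := by
      have := h63 x hx0
      rw [show 63 = 15 * 4 + 3 by norm_num, pow_add, pow_mul, h15, one_pow, one_mul] at this
      exact this
    rw [show 21 = 3 * 7 by norm_num, pow_mul, this, one_pow]
  have hxm : x * (a ^ 7 * u0) = u0 ^ 2 ^ i := by
    rw [hx, show (2 : ℕ) ^ 3 = 8 by norm_num]
    field_simp
  have hu21 : (u0 ^ 2 ^ i) ^ 21 = u0 ^ 21 := by
    rw [← pow_mul]
    rcases hi with rfl | rfl | rfl
    · norm_num
    · rw [show 2 ^ 2 * 21 = 63 * 1 + 21 by norm_num, pow_add, pow_mul, h63 u0 hu0, one_pow, one_mul]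
    · rw [show 2 ^ 4 * 21 = 63 * 5 + 21 by norm_num, pow_add, pow_mul, h63 u0 hu0, one_pow, one_mul]
  have h := congrArg (· ^ 21) hxm
  simp only [mul_pow, h3, one_mul, hu21] at h
  have h7 : (a ^ 7) ^ 21 = a ^ 21 := by
    rw [← pow_mul, show 7 * 21 = 63 * 2 + 21 by norm_num, pow_add, pow_mul, h63 a ha, one_pow, one_mul]
  rw [h7] at h
  exact ha21 (mul_right_cancel₀ (pow_ne_zero 21 hu0) (by rw [one_mul]; exact h))

/-- The quadratic map `qq` on a family of operators `D`, killed by those operators, vanishes. -/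
theorem quad_zero (hF : Fintype.card F = 2 ^ n) (hn : 2 ≤ n) (hen : e ∣ n) (c : Fˣ)
    (hc : e * orderOf c = 2 ^ n - 1) {P : Type*} [MulOneClass P] (D : P → F → F) (qq : P → F) (cc : P → P → F)
    (hDadd : ∀ x s t, D x (s + t) = D x s + D x t) (hDmul : ∀ x y, D (x * y) = D x + D y)
    (hqq : ∀ x y, qq (x * y) = qq x + qq y + cc x y) (hl : ∀ x x' y, cc (x * x') y = cc x y + cc x' y)
    (hr : ∀ x y y', cc x (y * y') = cc x y + cc x y') (hDq : ∀ x, D x (qq x) = 0)
    (hker : ∀ x, D x = 0 → qq x = 0 ∧ ∀ y, cc x y = 0 ∧ cc y x = 0)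
    (hno0 : ∀ x u, (D x = fun t => u * t) → u = 0)
    (hscal : ∀ x, ∃ y, ∀ t, D y ((c : F) * t) = (c : F) * D x t)
    (htw : n = 6 → e = 3 → ∃ (a : F) (i : ℕ), a ≠ 0 ∧ a ^ 21 ≠ 1 ∧ (i = 0 ∨ i = 2 ∨ i = 4) ∧
      ∀ x, ∃ y, ∀ t, D y (a * t ^ 2 ^ i) = a * D x t ^ 2 ^ i) : ∀ x, qq x = 0 := by
  classical
  have hn0 : n ≠ 0 := by omega
  have hD1 : D 1 = 0 := by
    funext t
    have := congrFun (hDmul 1 1) t
    rw [mul_one] at this
    exact left_eq_add.1 this
  have hex : ∀ x, ∃ w : Fin n → F, ∀ t, D x t = ∑ i : Fin n, w i * t ^ 2 ^ i.1 := fun x => by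
    obtain ⟨w, hw⟩ := SuzukiField.frob_expand hn0 hF (AddMonoidHom.mk' (D x) (hDadd x))
    exact ⟨fun i => w i, fun t => (hw t).trans (Fin.sum_univ_eq_sum_range (fun i => w i * t ^ 2 ^ i) n).symm⟩
  choose W hW using hex
  have huniq : ∀ x (w : Fin n → F), (∀ t, D x t = ∑ i : Fin n, w i * t ^ 2 ^ i.1) → W x = w := by
    intro x w hw
    funext i
    have := SuzukiField.frob_indep hF (fun j => if hj : j < n then W x ⟨j, hj⟩ - w ⟨j, hj⟩ else 0) (fun t => by
      rw [← Fin.sum_univ_eq_sum_range (fun j => (if hj : j < n then W x ⟨j, hj⟩ - w ⟨j, hj⟩ else 0) * t ^ 2 ^ j)]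
      simp only [Fin.is_lt, dif_pos, Fin.eta, sub_mul, Finset.sum_sub_distrib, ← hW, ← hw, sub_self]) i.1 i.2
    simpa [sub_eq_zero] using this
  have hWmul : ∀ x y, W (x * y) = W x + W y := fun x y => huniq _ _ fun t => by
    rw [hDmul]
    simp only [Pi.add_apply, hW, add_mul, Finset.sum_add_distrib]
  let R : AddSubgroup (Fin n → F) :=
    { carrier := Set.range W
      zero_mem' := ⟨1, huniq _ _ fun t => by simp [hD1]⟩
      add_mem' := by rintro _ _ ⟨x, rfl⟩ ⟨y, rfl⟩; exact ⟨x * y, hWmul x y⟩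
      neg_mem' := by
        rintro _ ⟨x, rfl⟩
        exact ⟨x, funext fun i => (CharTwo.neg_eq (W x i)).symm⟩ }
  have hR : ∀ w ∈ R, (fun i : Fin n => (c : F) * ((c : F) ^ 2 ^ i.1)⁻¹ * w i) ∈ R := by
    rintro _ ⟨x, rfl⟩
    obtain ⟨y, hy⟩ := hscal x
    refine ⟨y, huniq _ _ fun t => ?_⟩
    have h1 := hy ((c : F)⁻¹ * t)
    rw [mul_inv_cancel_left₀ c.ne_zero] at h1
    rw [h1, hW, Finset.mul_sum]
    refine Finset.sum_congr rfl fun i _ => ?_
    rw [mul_pow, inv_pow]
    ring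
  have hproj : ∀ x (σ : Fin n), ∃ y, D y = fun t => W x σ * t ^ 2 ^ σ.1 := by
    intro x σ
    obtain ⟨y, hy⟩ := projection_index hF hn hen c hc R hR (W x) ⟨x, rfl⟩ σ
    refine ⟨y, funext fun t => ?_⟩
    rw [hW, hy, Finset.sum_eq_single σ]
    · simp
    · intro i _ hi; simp [hi]
    · intro h; exact absurd (Finset.mem_univ σ) h
  have hmon : ∀ x (σ : ℕ) u, (D x = fun t => u * t ^ 2 ^ σ) → qq x = 0 := by
    intro x σ u hx
    by_cases hu : u = 0
    · exact (hker x (by rw [hx, hu]; funext t; simp)).1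
    · have := hDq x
      rw [hx] at this
      exact pow_eq_zero_iff (by positivity) |>.1 ((mul_eq_zero.1 this).resolve_left hu)
  have heql : ∀ x x' y, D x = D x' → cc x y = cc x' y := fun x x' y h => by
    have := ((hker (x * x') (by rw [hDmul, h]; funext t; exact CharTwo.add_self_eq_zero _)).2 y).1
    rw [hl] at this
    exact CharTwo.add_eq_zero.1 this
  have heqr : ∀ y x x', D x = D x' → cc y x = cc y x' := fun y x x' h => by
    have := ((hker (x * x') (by rw [hDmul, h]; funext t; exact CharTwo.add_self_eq_zero _)).2 y).2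
    rw [hr] at this
    exact CharTwo.add_eq_zero.1 this
  let U : ℕ → AddSubgroup F := fun σ =>
    { carrier := {u | ∃ x, D x = fun t => u * t ^ 2 ^ σ}
      zero_mem' := ⟨1, by rw [hD1]; funext t; simp⟩
      add_mem' := by
        rintro u v ⟨x, hx⟩ ⟨y, hy⟩
        exact ⟨x * y, by rw [hDmul, hx, hy]; funext t; simp [add_mul]⟩
      neg_mem' := by
        rintro u ⟨x, hx⟩
        exact ⟨x, by rw [CharTwo.neg_eq]; exact hx⟩ }
  have hUc : ∀ σ, ∀ u ∈ U σ, (c : F) * ((c : F) ^ 2 ^ σ)⁻¹ * u ∈ U σ := by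
    rintro σ u ⟨x, hx⟩
    obtain ⟨y, hy⟩ := hscal x
    refine ⟨y, funext fun t => ?_⟩
    have h1 := hy ((c : F)⁻¹ * t)
    rw [mul_inv_cancel_left₀ c.ne_zero] at h1
    rw [h1, hx]
    simp only [mul_pow, inv_pow]
    ring
  have hmm : ∀ σ < n, ∀ τ < n, σ ≠ τ → ∀ x y u v, (D x = fun t => u * t ^ 2 ^ σ) →
      (D y = fun t => v * t ^ 2 ^ τ) → cc x y = 0 := by
    intro σ hσ τ hτ hne x y u v hx hy
    by_cases hu : u = 0
    · exact ((hker x (by rw [hx, hu]; funext t; simp)).2 y).1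
    by_cases hv : v = 0
    · exact ((hker y (by rw [hy, hv]; funext t; simp)).2 x).2
    by_contra hz
    have hσ0 : σ ≠ 0 := by rintro rfl; exact hu (hno0 x u (by simpa using hx))
    have hτ0 : τ ≠ 0 := by rintro rfl; exact hv (hno0 y v (by simpa using hy))
    have hkey : ∀ x y u v, (D x = fun t => u * t ^ 2 ^ σ) → (D y = fun t => v * t ^ 2 ^ τ) →
        u * cc x y ^ 2 ^ σ = v * cc x y ^ 2 ^ τ := by
      intro x y u v hx hy
      have := hDq (x * y)
      rw [hqq, hmon x σ u hx, hmon y τ v hy, zero_add, zero_add, hDmul, hx, hy] at this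
      exact CharTwo.add_eq_zero.1 this
    let Cl : F → F := fun u' => if h : u' ∈ U σ then cc h.choose y else 0
    let Cr : F → F := fun v' => if h : v' ∈ U τ then cc x h.choose else 0
    have hCl : ∀ x' u', (D x' = fun t => u' * t ^ 2 ^ σ) → Cl u' = cc x' y := fun x' u' h => by
      have hm : u' ∈ U σ := ⟨x', h⟩
      simp only [Cl, dif_pos hm]
      exact heql _ _ _ (hm.choose_spec.trans h.symm)
    have hCr : ∀ y' v', (D y' = fun t => v' * t ^ 2 ^ τ) → Cr v' = cc x y' := fun y' v' h => by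
      have hm : v' ∈ U τ := ⟨y', h⟩
      simp only [Cr, dif_pos hm]
      exact heqr _ _ _ (hm.choose_spec.trans h.symm)
    have hlineL := cross_line hF hσ hτ hne (U σ) Cl
      (fun u1 ⟨x1, h1⟩ u2 ⟨x2, h2⟩ => by
        rw [hCl _ _ h1, hCl _ _ h2, hCl (x1 * x2) (u1 + u2) (by rw [hDmul, h1, h2]; funext t; simp [add_mul]), hl])
      (v := v) (fun u1 ⟨x1, h1⟩ => by rw [hCl _ _ h1]; exact hkey x1 y u1 v h1 hy)
      (⟨x, hx⟩ : u ∈ U σ) (by rw [hCl x u hx]; exact hz)
    have hlineR := cross_line hF hτ hσ hne.symm (U τ) Cr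
      (fun v1 ⟨y1, h1⟩ v2 ⟨y2, h2⟩ => by
        rw [hCr _ _ h1, hCr _ _ h2, hCr (y1 * y2) (v1 + v2) (by rw [hDmul, h1, h2]; funext t; simp [add_mul]), hr])
      (v := u) (fun v1 ⟨y1, h1⟩ => by rw [hCr _ _ h1]; exact (hkey x y1 u v1 hx h1).symm)
      (⟨y, hy⟩ : v ∈ U τ) (by rw [hCr y v hy]; exact hz)
    obtain ⟨hn6, he3, hcase⟩ := cross_cases (by omega) hen ⟨_, hc.symm⟩ hσ hτ hσ0 hτ0 hne
      (side_of_line c hc (U σ) hu ⟨x, hx⟩ (hUc σ) hlineL) (side_of_line c hc (U τ) hv ⟨y, hy⟩ (hUc τ) hlineR)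
    obtain ⟨a, i, ha, ha21, hi, htw'⟩ := htw hn6 he3
    subst hn6
    have hUa : ∀ u ∈ U 3, a * (a ^ 2 ^ 3)⁻¹ * u ^ 2 ^ i ∈ U 3 := by
      rintro u ⟨x, hx⟩
      obtain ⟨y, hy⟩ := htw' x
      refine ⟨y, funext fun s => ?_⟩
      obtain ⟨t, ht⟩ := Finite.injective_iff_surjective.1 (SuzukiField.pow_two_inj (F := F) i) (s / a)
      simp only at ht
      have hs : s = a * t ^ 2 ^ i := by rw [ht, mul_div_cancel₀ _ ha]
      rw [hs, hy, hx]
      simp only [mul_pow, ← pow_mul]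
      rw [mul_comm (2 ^ 3) (2 ^ i)]
      field_simp
    rcases hcase with ⟨rfl, rfl⟩ | ⟨rfl, rfl⟩
    · exact twist_absurd hF (U 3) hu ⟨x, hx⟩ hlineL ha ha21 hi hUa
    · exact twist_absurd hF (U 3) hv ⟨y, hy⟩ hlineR ha ha21 hi hUa
  have hmain : ∀ s : Finset (Fin n), ∀ x, (D x = fun t => ∑ i ∈ s, W x i * t ^ 2 ^ i.1) →
      qq x = 0 ∧ ∀ (τ : Fin n) y v, (D y = fun t => v * t ^ 2 ^ τ.1) → cc x y = 0 := by
    intro s
    induction s using Finset.induction with
    | empty =>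
      intro x hx
      have h0 : D x = 0 := by rw [hx]; funext t; simp
      exact ⟨(hker x h0).1, fun τ y v _ => ((hker x h0).2 y).1⟩
    | @insert i s his ih =>
      intro x hx
      obtain ⟨x1, hx1⟩ := hproj x i
      have hD' : D (x * x1) = fun t => ∑ j ∈ s, W x j * t ^ 2 ^ j.1 := by
        rw [hDmul, hx, hx1]
        funext t
        simp only [Pi.add_apply, Finset.sum_insert his]
        linear_combination (W x i * t ^ 2 ^ i.1) * (CharTwo.two_eq_zero : (2 : F) = 0)
      have hWeq : ∀ j ∈ s, W (x * x1) j = W x j := by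
        intro j hj
        rw [hWmul, huniq x1 (fun k => if k = i then W x i else 0) (fun t => by rw [hx1]; simp)]
        simp [show j ≠ i from fun h => his (h ▸ hj)]
      obtain ⟨hq', hc'⟩ := ih (x * x1) (hD'.trans (funext fun t => Finset.sum_congr rfl fun j hj => by rw [hWeq j hj]))
      have hx1q := hmon x1 i.1 _ hx1
      have hcx : ∀ (τ : Fin n) y v, (D y = fun t => v * t ^ 2 ^ τ.1) → cc x1 y = 0 := by
        intro τ y v hy
        by_cases hiτ : i.1 = τ.1
        · have h := hqq x1 y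
          rw [hx1q, hmon y τ.1 v hy, hmon (x1 * y) τ.1 (W x i + v) (by
            rw [hDmul, hx1, hy, ← hiτ]; funext t; simp [add_mul])] at h
          simpa using h.symm
        · exact hmm i.1 i.2 τ.1 τ.2 hiτ x1 y _ v hx1 hy
      have hccx : ∀ (τ : Fin n) y v, (D y = fun t => v * t ^ 2 ^ τ.1) → cc x y = 0 := by
        intro τ y v hy
        have := hc' τ y v hy
        rw [hl, hcx τ y v hy, add_zero] at this
        exact this
      refine ⟨?_, hccx⟩
      rw [hqq, hx1q, hccx i x1 _ hx1, add_zero, add_zero] at hq'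
      exact hq'
  exact fun x => (hmain Finset.univ x (funext (hW x))).1

end Cfsg.Agent.Solv.TwoAuto
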