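import Cfsg.Agent.Lib.Lie.SuzukiTwo

/-!
The layers above an abelian subgroup of a two-group whose automorphisms are transitive on involutions,
for any automorphism group without invariant alternating pairings on the involutions.
-/

set_option autoImplicit false

namespace Cfsg.Agent.Solv.TwoAuto

open Cfsg.Agent.Lie.SuzukiTwo

/-- An idempotent endomorphism commuting with its conjugates is zero or one. -/
theorem idem_general {E : Type*} [CommGroup E] [Finite E] {K : Type*} [Group K] (act : K →* MulAut E)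
    (htr : ∀ x y : E, x ≠ 1 → y ≠ 1 → ∃ k, act k x = y) (d : E →* E) (hd : ∀ x, d (d x) = d x)
    (hcomm : ∀ k x, d (act k (d ((act k).symm x))) = act k (d ((act k).symm (d x)))) :
    (∀ x, d x = x) ∨ ∀ x, d x = 1 := by
  classical
  by_cases hE : ∃ x : E, x ≠ 1
  swap
  · push Not at hE
    exact Or.inr fun x => hE _
  obtain ⟨x0, hx0⟩ := hE
  let cj : K → E →* E := fun k => (act k).toMonoidHom.comp (d.comp (act k).symm.toMonoidHom)
  have hcj : ∀ k x, cj k x = act k (d ((act k).symm x)) := fun k x => rfl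
  have hidem : ∀ k x, cj k (cj k x) = cj k x := fun k x => by simp [hcj, hd]
  have hcc : ∀ k l x, cj k (cj l x) = cj l (cj k x) := by
    intro k l x
    have h := hcomm (k⁻¹ * l) ((act k).symm x)
    simp only [hcj]
    have e1 : ∀ y, act (k⁻¹ * l) y = (act k).symm (act l y) := fun y => by
      rw [map_mul, map_inv, MulAut.mul_apply]; rfl
    have e2 : ∀ y, (act (k⁻¹ * l)).symm y = (act l).symm (act k y) := fun y => by
      apply (act (k⁻¹ * l)).injective
      rw [MulEquiv.apply_symm_apply, e1, MulEquiv.apply_symm_apply, MulEquiv.symm_apply_apply]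
    rw [e1, e1, e2, e2, MulEquiv.apply_symm_apply] at h
    rw [h, MulEquiv.apply_symm_apply]
  let 𝒲 : Set (Subgroup E) := {W | W ≠ ⊥ ∧ ∀ k, ∀ x ∈ W, cj k x ∈ W}
  obtain ⟨W, ⟨hW0, hWinv⟩, hmin⟩ := Set.Finite.exists_minimalFor (fun W : Subgroup E => Nat.card W) 𝒲 (Set.toFinite _)
    ⟨⊤, (Subgroup.nontrivial_iff_exists_ne_one _).2 ⟨x0, Subgroup.mem_top x0, hx0⟩ |> (fun h hbot => by
      rw [hbot] at h; exact not_nontrivial (↥(⊥ : Subgroup E)) h), fun _ _ _ => Subgroup.mem_top _⟩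
  have hdich : ∀ k, ∀ x ∈ W, x ≠ 1 → cj k x = x ∨ cj k x = 1 := by
    intro k x hx _
    by_cases hall : ∀ y ∈ W, cj k y = 1
    · exact Or.inr (hall x hx)
    left
    push Not at hall
    obtain ⟨y, hy, hy1⟩ := hall
    let W' : Subgroup E := W ⊓ (cj k).eqLocus (MonoidHom.id E)
    have hW' : W' ∈ 𝒲 := by
      refine ⟨fun hbot => hy1 ?_, fun l z hz => ⟨hWinv l z hz.1, ?_⟩⟩
      · have : cj k y ∈ W' := ⟨hWinv k y hy, hidem k y⟩
        rw [hbot] at this
        exact Subgroup.mem_bot.1 this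
      · show cj k (cj l z) = cj l z
        rw [hcc, show cj k z = z from hz.2]
    have hle : W' ≤ W := inf_le_left
    have : W' = W := Subgroup.eq_of_le_of_card_ge hle (hmin hW' (Subgroup.card_le_of_le hle))
    rw [← this] at hx
    exact hx.2
  haveI := (Subgroup.nontrivial_iff_ne_bot W).2 hW0
  obtain ⟨⟨w, hw⟩, hw1⟩ := exists_ne (1 : ↥W)
  have hpt : ∀ x, d x = x ∨ d x = 1 := by
    intro x
    by_cases hx : x = 1
    · left; rw [hx, map_one]
    obtain ⟨l, hl⟩ := htr w x (fun h => hw1 (Subtype.ext h)) hx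
    have := hdich l⁻¹ w hw (fun h => hw1 (Subtype.ext h))
    simp only [hcj] at this
    have e : (act l⁻¹).symm w = x := by rw [map_inv]; exact hl
    rw [e] at this
    rcases this with h | h
    · left
      apply (act l⁻¹).injective
      rw [h, ← e, MulEquiv.apply_symm_apply]
    · right
      apply (act l⁻¹).injective
      rw [h, map_one]
  by_contra hcon
  push Not at hcon
  obtain ⟨⟨a, ha⟩, ⟨b, hb⟩⟩ := hcon
  have ha1 := (hpt a).resolve_left ha
  have hb1 := (hpt b).resolve_right hb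
  have ha0 : a ≠ 1 := fun h => ha (by rw [h, map_one])
  have hb0 : b ≠ 1 := fun h => hb (by rw [h, map_one])
  rcases hpt (a * b) with h | h <;> rw [map_mul, ha1, hb1, one_mul] at h
  · exact ha0 (right_eq_mul.1 h)
  · exact hb0 h

/-- No alternating equivariant pairing on the involutions. -/
def NoPair {P : Type*} [Group P] (K : Subgroup (MulAut P)) : Prop :=
  ∀ b : P → P → P, (∀ u v, u * u = 1 → v * v = 1 → b u v * b u v = 1) →
    (∀ u u' v, u * u = 1 → u' * u' = 1 → v * v = 1 → b (u * u') v = b u v * b u' v) →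
    (∀ u v v', u * u = 1 → v * v = 1 → v' * v' = 1 → b u (v * v') = b u v * b u v') →
    (∀ k ∈ K, ∀ u v, u * u = 1 → v * v = 1 → b (k u) (k v) = k (b u v)) →
    (∀ u, u * u = 1 → b u u = 1) → ∀ u v, u * u = 1 → v * v = 1 → b u v = 1

section Group

variable {P : Type*} [Group P]

variable (K : Subgroup (MulAut P))
variable (hinvc : ∀ x : P, x * x = 1 → x ∈ Subgroup.center P)
variable (htr : ∀ x y : P, x ≠ 1 → x * x = 1 → y ≠ 1 → y * y = 1 → ∃ k ∈ K, k x = y)

variable {K} {A : Subgroup P} {e : ℕ}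
variable (hpair : NoPair K)

section Layer

variable {S : Subgroup P} (hA : Good K A e) (hSl : ∀ y ∈ S, y ∈ layer A) (hAS : A ≤ S)
  (hSK : ∀ k ∈ K, ∀ y ∈ S, k y ∈ S) (hsm : ∀ y ∈ S, ∀ a ∈ A, phi y a * phi y a = 1)
  (hh : 3 ≤ e ∨ ∀ y ∈ S, ∀ a ∈ A, phi y a = 1)

include hinvc htr hpair hA hSl hSK hsm hh in
/-- equivariant biadditive functions on a layer vanish -/
theorem pair_vanish [Finite P] {T : Set P} (c : P → P → P) (q : P → P)
    (hTmul : ∀ x ∈ T, ∀ y ∈ T, x * y ∈ T) (hTK : ∀ k ∈ K, ∀ x ∈ T, k x ∈ T)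
    (hq2 : ∀ x ∈ T, q x * q x = 1) (hqmul : ∀ x ∈ T, ∀ y ∈ T, q (x * y) = q x * q y)
    (hqK : ∀ k ∈ K, ∀ x, q (k x) = k (q x)) (hqs : ∀ u, u * u = 1 → ∃ x ∈ T, q x = u)
    (hc2 : ∀ y ∈ S, ∀ x ∈ T, c y x * c y x = 1)
    (hcl : ∀ y ∈ S, ∀ y' ∈ S, ∀ x ∈ T, c (y * y') x = c y x * c y' x)
    (hcr : ∀ y ∈ S, ∀ x ∈ T, ∀ x' ∈ T, c y (x * x') = c y x * c y x')
    (hcA : ∀ a ∈ A, ∀ x ∈ T, c a x = 1)
    (hcq : ∀ y ∈ S, ∀ x ∈ T, q x = 1 → c y x = 1)
    (hcK : ∀ k ∈ K, ∀ y x, c (k y) (k x) = k (c y x))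
    (hcd : ∀ y ∈ S, ∀ x ∈ T, q x = (y * y) ^ 2 ^ (e - 1) → c y x = 1) :
    ∀ y ∈ S, ∀ x ∈ T, c y x = 1 := by
  classical
  intro y hy x hx
  by_cases hyA : y ∈ A
  · exact hcA y hyA x hx
  let E : Subgroup P :=
    { carrier := {u | u * u = 1}
      one_mem' := mul_one 1
      mul_mem' := fun {a b} ha hb => by
        show a * b * (a * b) = 1
        have ha' : a * a = 1 := ha
        have hb' : b * b = 1 := hb
        rw [mul_assoc, ← mul_assoc b, Subgroup.mem_center_iff.1 (hinvc a ha') b, mul_assoc a, hb', mul_one, ha']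
      inv_mem' := fun {a} ha => by
        show a⁻¹ * a⁻¹ = 1
        rw [← mul_inv_rev, show a * a = 1 from ha, inv_one] }
  have hKE : ∀ (k : MulAut P) (u : P), u * u = 1 → k u * k u = 1 := fun k u hu => by rw [← map_mul, hu, map_one]
  have hsur := fun u : ↥E => sq_surj hinvc htr hA hSl hSK hsm hh hy hyA u.2
  choose sy hsyS hsy using hsur
  choose sx hsxT hsx using fun u : ↥E => hqs u.1 u.2
  have wl : ∀ (y1 y2 x1 : P), y1 ∈ S → y2 ∈ S → x1 ∈ T →
      (y1 * y1) ^ 2 ^ (e - 1) = (y2 * y2) ^ 2 ^ (e - 1) → c y1 x1 = c y2 x1 := by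
    intro y1 y2 x1 h1 h2 hx1 h
    have hmem : y2⁻¹ * y1 ∈ A := sq_ker hinvc htr hA hSl hsm hh (mul_mem (inv_mem h2) h1) (by
      have := sq_hom hinvc hA hSl hsm hh h2 (mul_mem (inv_mem h2) h1)
      rw [mul_inv_cancel_left, h] at this
      exact (left_eq_mul).1 this)
    have := hcl y2 h2 _ (mul_mem (inv_mem h2) h1) x1 hx1
    rw [mul_inv_cancel_left, hcA _ hmem x1 hx1, mul_one] at this
    exact this
  have hTpow : ∀ x1 ∈ T, ∀ n : ℕ, x1 ^ (n + 1) ∈ T := fun x1 h1 n => by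
    induction n with
    | zero => simpa using h1
    | succ n ih => rw [pow_succ]; exact hTmul _ ih _ h1
  have wr : ∀ (y1 x1 x2 : P), y1 ∈ S → x1 ∈ T → x2 ∈ T → q x1 = q x2 → c y1 x1 = c y1 x2 := by
    intro y1 x1 x2 h1 hx1 hx2 h
    have h12 : q (x1 * x2) = 1 := by rw [hqmul _ hx1 _ hx2, h, hq2 _ hx2]
    have := hcr y1 h1 x1 hx1 x2 hx2
    rw [hcq y1 h1 _ (hTmul _ hx1 _ hx2) h12] at this
    calc c y1 x1 = (c y1 x2)⁻¹ := eq_inv_of_mul_eq_one_left this.symm
      _ = c y1 x2 := inv_eq_of_mul_eq_one_right (hc2 y1 h1 x2 hx2)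
  let b : P → P → P := fun u v => if h : u * u = 1 ∧ v * v = 1 then c (sy ⟨u, h.1⟩) (sx ⟨v, h.2⟩) else 1
  have hbe : ∀ (u v : ↥E), b u.1 v.1 = c (sy u) (sx v) := fun u v => dif_pos ⟨u.2, v.2⟩
  have hb := hpair b
    (fun u v hu hv => by
      rw [show b u v = _ from hbe ⟨u, hu⟩ ⟨v, hv⟩]
      exact hc2 _ (hsyS _) _ (hsxT _))
    (fun u u' v hu hu' hv => by
      rw [show b (u * u') v = _ from hbe (⟨u, hu⟩ * ⟨u', hu'⟩) ⟨v, hv⟩, show b u v = _ from hbe ⟨u, hu⟩ ⟨v, hv⟩,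
        show b u' v = _ from hbe ⟨u', hu'⟩ ⟨v, hv⟩, ← hcl _ (hsyS _) _ (hsyS _) _ (hsxT _)]
      refine wl _ _ _ (hsyS _) (mul_mem (hsyS _) (hsyS _)) (hsxT _) ?_
      rw [sq_hom hinvc hA hSl hsm hh (hsyS _) (hsyS _), hsy, hsy, hsy]; rfl)
    (fun u v v' hu hv hv' => by
      rw [show b u (v * v') = _ from hbe ⟨u, hu⟩ (⟨v, hv⟩ * ⟨v', hv'⟩), show b u v = _ from hbe ⟨u, hu⟩ ⟨v, hv⟩,
        show b u v' = _ from hbe ⟨u, hu⟩ ⟨v', hv'⟩, ← hcr _ (hsyS _) _ (hsxT _) _ (hsxT _)]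
      refine wr _ _ _ (hsyS _) (hsxT _) (hTmul _ (hsxT _) _ (hsxT _)) ?_
      rw [hqmul _ (hsxT _) _ (hsxT _), hsx, hsx, hsx]; rfl)
    (fun k hk u v hu hv => by
      rw [show b (k u) (k v) = _ from hbe ⟨k u, hKE k u hu⟩ ⟨k v, hKE k v hv⟩,
        show b u v = _ from hbe ⟨u, hu⟩ ⟨v, hv⟩, ← hcK k hk]
      rw [wl _ (k (sy ⟨u, hu⟩)) _ (hsyS _) (hSK k hk _ (hsyS _)) (hsxT _) (by
        rw [hsy, ← map_mul, ← map_pow, hsy])]
      exact wr _ _ _ (hSK k hk _ (hsyS _)) (hsxT _) (hTK k hk _ (hsxT _)) (by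
        rw [hsx, hqK k hk, hsx]))
    (fun u hu => by
      rw [show b u u = _ from hbe ⟨u, hu⟩ ⟨u, hu⟩]
      exact hcd _ (hsyS _) _ (hsxT _) (by rw [hsx, hsy]))
  let u : ↥E := ⟨(y * y) ^ 2 ^ (e - 1), pi_invol hA (hSl y hy).2⟩
  let v : ↥E := ⟨q x, hq2 x hx⟩
  have h := hb u.1 v.1 u.2 v.2
  rw [hbe u v] at h
  rw [wl (sy u) y _ (hsyS u) hy (hsxT v) (hsy u), wr y (sx v) x hy (hsxT v) hx (hsx v)] at h
  exact h

end Layer

include hinvc htr hpair in
theorem enlarge [Finite P] (hA : Good K A e) {y0 : P} (hy0 : y0 ∈ layer A) (hy0A : y0 ∉ A)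
    (hy0c : ∀ a ∈ A, phi y0 a = 1) : ∃ (A' : Subgroup P) (e' : ℕ), Good K A' e' ∧ A < A' := by
  let S : Subgroup P := ofMul {y | y ∈ layer A ∧ ∀ a ∈ A, phi y a = 1}
    ⟨layer_one hA, fun a _ => by simp [phi]⟩
    (fun y hy z hz => ⟨layer_mul hA hy.1 hz.1, fun a ha => by rw [phi_comp, hz.2 a ha, one_mul, hy.2 a ha, one_mul]⟩)
  have hAS : A ≤ S := fun a ha => ⟨layer_of_mem hA ha, fun b hb => phi_one_of_mem hA ha hb⟩
  have hSl : ∀ y ∈ S, y ∈ layer A := fun y hy => hy.1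
  have hS1 : ∀ y ∈ S, ∀ a ∈ A, phi y a = 1 := fun y hy => hy.2
  have hsm : ∀ y ∈ S, ∀ a ∈ A, phi y a * phi y a = 1 := fun y hy a ha => by rw [hS1 y hy a ha, one_mul]
  have hSK : ∀ k ∈ K, ∀ y ∈ S, k y ∈ S := fun k hk y hy => ⟨layer_inv hA hk hy.1, fun a ha => by
    have ha' : k⁻¹ a ∈ A := hA.inv _ (inv_mem hk) a ha
    have h := congrArg k (hy.2 _ ha')
    rw [← phi_apply_equiv, map_one, MulAut.apply_inv_self] at h
    exact h⟩
  have hh : 3 ≤ e ∨ ∀ y ∈ S, ∀ a ∈ A, phi y a = 1 := Or.inr hS1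
  let c : P → P → P := fun y z => y⁻¹ * z * y * z⁻¹
  have hc2 : ∀ y ∈ S, ∀ z ∈ S, c y z * c y z = 1 := fun y hy z hz => by
    have h := (comm_small hinvc hA (hSl y hy) (fun a ha => ⟨hsm z hz a ha, hsm y hy a ha⟩)).2.2
      (fun a ha => ⟨hS1 z hz a ha, hS1 y hy a ha⟩)
    rw [pow_two] at h; exact h
  have hcen : ∀ y ∈ S, ∀ z ∈ S, ∀ w, w * c y z = c y z * w := fun y hy z hz w =>
    Subgroup.mem_center_iff.1 (hinvc _ (hc2 y hy z hz)) w
  have hcA : ∀ a ∈ A, ∀ z ∈ S, c a z = 1 := fun a ha z hz => by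
    have h := hS1 z hz a ha
    simp only [phi] at h
    simp only [c]
    rw [mul_inv_eq_one, mul_inv_eq_iff_eq_mul] at h
    rw [mul_assoc a⁻¹, h]; group
  have hall := pair_vanish hinvc htr hpair hA hSl hSK hsm hh (T := (S : Set P)) c (fun x => (x * x) ^ 2 ^ (e - 1))
    (fun x hx y hy => mul_mem hx hy) hSK (fun x hx => pi_invol hA (hSl x hx).2)
    (fun x hx y hy => sq_hom hinvc hA hSl hsm hh hx hy) (fun k _ x => by rw [← map_mul, ← map_pow])
    (fun u hu => sq_surj hinvc htr hA hSl hSK hsm hh ⟨hy0, hy0c⟩ hy0A hu) hc2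
    (fun y hy y' hy' x hx => by
      calc c (y * y') x = y'⁻¹ * c y x * (x * y' * x⁻¹) := by simp only [c]; group
        _ = c y x * y'⁻¹ * (x * y' * x⁻¹) := by rw [hcen y hy x hx]
        _ = _ := by simp only [c]; group)
    (fun y hy x hx x' hx' => by
      calc c y (x * x') = y⁻¹ * x * y * c y x' * x⁻¹ := by simp only [c]; group
        _ = y⁻¹ * x * y * (x⁻¹ * c y x') := by rw [mul_assoc _ (c y x') x⁻¹, hcen y hy x' hx' x⁻¹]
        _ = _ := by simp only [c]; group)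
    hcA
    (fun y hy x hx h => by
      have h' := hcA x (sq_ker hinvc htr hA hSl hsm hh hx h) y hy
      simp only [c] at h' ⊢
      rw [mul_inv_eq_one, mul_assoc, inv_mul_eq_iff_eq_mul] at h' ⊢
      exact h'.symm)
    (fun k _ y x => by simp [c])
    (fun y hy x hx h => by
      have hh' : (x * x) ^ 2 ^ (e - 1) = (y * y) ^ 2 ^ (e - 1) := h
      have hmem : y⁻¹ * x ∈ A := sq_ker hinvc htr hA hSl hsm hh (mul_mem (inv_mem hy) hx) (by
        have := sq_hom hinvc hA hSl hsm hh hy (mul_mem (inv_mem hy) hx)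
        rw [mul_inv_cancel_left, hh'] at this
        exact left_eq_mul.1 this)
      have h1 := hS1 y hy _ hmem
      simp only [phi, c] at h1 ⊢
      rw [mul_inv_eq_one, mul_inv_eq_iff_eq_mul, mul_inv_cancel_left] at h1
      rw [← h1, mul_inv_cancel])
  refine ⟨S, e + 1, ⟨⟨fun y hy g => ?_⟩, fun y hy z hz => ?_, hSK, hA.center_le.trans hAS, by have := hA.he; omega,
    fun y hy => ?_, ⟨y0, ⟨hy0, hy0c⟩, ?_⟩⟩, lt_of_le_of_ne hAS fun h => hy0A (h ▸ (⟨hy0, hy0c⟩ : y0 ∈ S))⟩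
  · have h1 : y * g * y⁻¹ * g⁻¹ ∈ A := (hSl y hy).1 g
    have h2 : g * y * g⁻¹ = (y * g * y⁻¹ * g⁻¹)⁻¹ * y := by group
    rw [h2]
    exact mul_mem (hAS (inv_mem h1)) hy
  · have h := hall y hy z hz
    simp only [c] at h
    rw [mul_inv_eq_one, mul_assoc, inv_mul_eq_iff_eq_mul] at h
    exact h.symm
  · rw [pow_succ', pow_mul, pow_two]; exact hA.exp _ (hSl y hy).2
  · rw [show e + 1 - 1 = e - 1 + 1 by have := hA.he; omega, pow_succ', pow_mul, pow_two]
    exact fun h => hy0A (sq_ker hinvc htr hA hSl hsm hh (show y0 ∈ S from ⟨hy0, hy0c⟩) h)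

include hinvc htr hpair in
theorem small_mem [Finite P] (hA : Good K A e) (he : 3 ≤ e)
    (hC : ∀ y : P, (∀ a ∈ A, phi y a = 1) → y ∈ A) {y : P} (hy : y ∈ layer A)
    (hs : ∀ a ∈ A, phi y a * phi y a = 1) : y ∈ A := by
  by_contra hyA
  let S : Subgroup P := ofMul {z | z ∈ layer A ∧ ∀ a ∈ A, phi z a * phi z a = 1}
    ⟨layer_one hA, fun a _ => by simp [phi]⟩
    (fun z hz w hw => ⟨layer_mul hA hz.1 hw.1, fun a ha => by
      rw [phi_comp, phi_mul hA z (phi_mem hA w ha) ha, phi_central hinvc z (hw.2 a ha), one_mul,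
        ← pow_two, comm_pow hA (phi_mem hA z ha) (phi_mem hA w ha), pow_two, pow_two, hz.2 a ha, hw.2 a ha, one_mul]⟩)
  have hSl : ∀ z ∈ S, z ∈ layer A := fun z hz => hz.1
  have hsm : ∀ z ∈ S, ∀ a ∈ A, phi z a * phi z a = 1 := fun z hz => hz.2
  have hSK : ∀ k ∈ K, ∀ z ∈ S, k z ∈ S := fun k hk z hz => ⟨layer_inv hA hk hz.1, fun a ha => by
    have ha' : k⁻¹ a ∈ A := hA.inv _ (inv_mem hk) a ha
    have h := congrArg k (hz.2 _ ha')
    rw [map_mul, ← phi_apply_equiv, map_one, MulAut.apply_inv_self] at h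
    exact h⟩
  have hall := pair_vanish hinvc htr hpair hA hSl hSK hsm (Or.inl he) (T := (A : Set P)) (fun z a => phi z a)
    (fun a => a ^ 2 ^ (e - 1)) (fun a ha b hb => mul_mem ha hb) (fun k hk a ha => hA.inv k hk a ha)
    (fun a ha => pi_invol hA ha) (fun a ha b hb => comm_pow hA ha hb _) (fun k _ a => (map_pow k a _).symm)
    (fun u hu => sq_one_root hinvc htr hA hu) hsm
    (fun z _ w hw a ha => by
      show phi (z * w) a = phi z a * phi w a
      rw [phi_comp, phi_mul hA z (phi_mem hA w ha) ha, phi_central hinvc z (hw.2 a ha), one_mul])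
    (fun z _ a ha b hb => phi_mul hA z ha hb) (fun a ha b hb => phi_one_of_mem hA ha hb)
    (fun z hz a ha h => by
      obtain ⟨c, hc, rfl⟩ := root_pi hinvc htr hA ha h
      show phi z (c ^ 2) = 1
      rw [phi_pow hA z hc, pow_two]; exact hz.2 c hc)
    (fun k _ z a => phi_apply_equiv k z a)
    (fun z hz a ha h => by
      have hzz := (hSl z hz).2
      have hpi : (a * (z * z)⁻¹) ^ 2 ^ (e - 1) = 1 := by
        have h' : a ^ 2 ^ (e - 1) = (z * z) ^ 2 ^ (e - 1) := h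
        rw [comm_pow hA ha (inv_mem hzz), inv_pow, h', mul_inv_cancel]
      obtain ⟨c, hc, hca⟩ := root_pi hinvc htr hA (mul_mem ha (inv_mem hzz)) hpi
      rw [eq_mul_inv_iff_mul_eq] at hca
      show phi z a = 1
      rw [← hca, phi_mul hA z (pow_mem hc _) hzz, phi_pow hA z hc, pow_two, hz.2 c hc, one_mul]
      simp only [phi]; group)
  exact hyA (hC y fun a ha => hall y ⟨hy, hs⟩ a ha)

include hinvc htr hpair in
theorem no_good [Finite P] (hA : Good K A e) (he : 3 ≤ e)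
    (hC : ∀ y : P, (∀ a ∈ A, phi y a = 1) → y ∈ A) {g : MulAut P} (hg : g ∈ K)
    (hfpf : ∀ x : P, g x = x → x = 1) {y : P} (hy : y ∈ layer A) : y ∈ A := by
  classical
  let E : Subgroup P :=
    { carrier := {u | u * u = 1}
      one_mem' := mul_one 1
      mul_mem' := fun {a b} ha hb => by
        show a * b * (a * b) = 1
        have ha' : a * a = 1 := ha
        have hb' : b * b = 1 := hb
        rw [mul_assoc, ← mul_assoc b, Subgroup.mem_center_iff.1 (hinvc a ha') b, mul_assoc a, hb', mul_one, ha']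
      inv_mem' := fun {a} ha => by
        show a⁻¹ * a⁻¹ = 1
        rw [← mul_inv_rev, show a * a = 1 from ha, inv_one] }
  letI : CommGroup ↥E := { (inferInstance : Group ↥E) with
    mul_comm := fun a b => Subtype.ext (Subgroup.mem_center_iff.1 (hinvc b.1 b.2) a.1) }
  have hKE : ∀ (k : MulAut P) (u : P), u * u = 1 → k u * k u = 1 := fun k u hu => by rw [← map_mul, hu, map_one]
  let act : ↥K →* MulAut ↥E :=
    { toFun := fun k =>
        { toFun := fun u => ⟨k.1 u.1, hKE k.1 u.1 u.2⟩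
          invFun := fun u => ⟨k.1.symm u.1, hKE k.1.symm u.1 u.2⟩
          left_inv := fun u => Subtype.ext (k.1.symm_apply_apply u.1)
          right_inv := fun u => Subtype.ext (k.1.apply_symm_apply u.1)
          map_mul' := fun u v => Subtype.ext (map_mul k.1 u.1 v.1) }
      map_one' := MulEquiv.ext fun u => Subtype.ext rfl
      map_mul' := fun k l => MulEquiv.ext fun u => Subtype.ext rfl }
  choose pre hpreA hpre using fun u : ↥E => sq_one_root hinvc htr hA u.2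
  have hphisq : ∀ (z : P) (a : P), a ∈ A → ∃ c ∈ A, c ^ 2 = phi z a := fun z a ha =>
    root_pi hinvc htr hA (phi_mem hA z ha) (pi_phi hinvc hA z ha)
  choose rt hrtA hrt using hphisq
  let D : P → ↥E → ↥E := fun z u => ⟨rt z _ (hpreA u) ^ 2 ^ (e - 1), pi_invol hA (hrtA z _ (hpreA u))⟩
  have spec : ∀ (z : P) (u : ↥E) (a c : P), a ∈ A → c ∈ A → a ^ 2 ^ (e - 1) = u.1 → phi z a = c ^ 2 →
      (D z u).1 = c ^ 2 ^ (e - 1) := by
    intro z u a c ha hc hau hac
    set a0 := pre u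
    set c0 := rt z a0 (hpreA u)
    have hc0 : c0 ∈ A := hrtA z a0 (hpreA u)
    have hpi : (a0⁻¹ * a) ^ 2 ^ (e - 1) = 1 := by
      rw [comm_pow hA (inv_mem (hpreA u)) ha, inv_pow, hau, hpre u, inv_mul_cancel]
    obtain ⟨f, hf, hfa⟩ := root_pi hinvc htr hA (mul_mem (inv_mem (hpreA u)) ha) hpi
    have hfA := phi_mem hA z hf
    have e1 : c ^ 2 = (c0 * phi z f) ^ 2 := by
      rw [← hac, show a = a0 * f ^ 2 by rw [hfa, mul_inv_cancel_left], phi_mul hA z (hpreA u) (pow_mem hf _),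
        phi_pow hA z hf, comm_pow hA hc0 hfA, hrt]
    have e2 : ((c0 * phi z f)⁻¹ * c) ^ 2 = 1 := by
      rw [comm_pow hA (inv_mem (mul_mem hc0 hfA)) hc, inv_pow, e1, inv_mul_cancel]
    have e3 := pow_small hA (by omega : 1 ≤ e - 1) (by rw [pow_one]; exact e2 : ((c0 * phi z f)⁻¹ * c) ^ 2 ^ 1 = 1)
    rw [comm_pow hA (inv_mem (mul_mem hc0 hfA)) hc, inv_pow, inv_mul_eq_one, comm_pow hA hc0 hfA,
      pi_phi hinvc hA z hf, mul_one] at e3
    exact e3
  have Dmul : ∀ z u v, D z (u * v) = D z u * D z v := fun z u v => Subtype.ext (by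
    show _ = (D z u).1 * (D z v).1
    rw [spec z u _ _ (hpreA u) (hrtA z _ (hpreA u)) (hpre u) (hrt z _ _).symm,
      spec z v _ _ (hpreA v) (hrtA z _ (hpreA v)) (hpre v) (hrt z _ _).symm,
      ← comm_pow hA (hrtA z _ (hpreA u)) (hrtA z _ (hpreA v))]
    refine spec z (u * v) (pre u * pre v) _ (mul_mem (hpreA u) (hpreA v)) (mul_mem (hrtA z _ (hpreA u)) (hrtA z _ (hpreA v))) ?_ ?_
    · rw [comm_pow hA (hpreA u) (hpreA v), hpre, hpre]; rfl
    · rw [phi_mul hA z (hpreA u) (hpreA v), comm_pow hA (hrtA z _ (hpreA u)) (hrtA z _ (hpreA v)), hrt, hrt])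
  let d : P → (↥E →* ↥E) := fun z => MonoidHom.mk' (D z) (Dmul z)
  have dadd : ∀ z w u, d (z * w) u = d z u * d w u := fun z w u => Subtype.ext (by
    set a := pre u
    have ha : a ∈ A := hpreA u
    set cw := rt w a ha
    set cz := rt z a ha
    have hcw : cw ∈ A := hrtA w a ha
    have hcz : cz ∈ A := hrtA z a ha
    show (D (z * w) u).1 = (D z u).1 * (D w u).1
    rw [spec z u a cz ha hcz (hpre u) (hrt z a ha).symm, spec w u a cw ha hcw (hpre u) (hrt w a ha).symm]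
    rw [spec (z * w) u a (phi z cw * cz * cw) ha (mul_mem (mul_mem (phi_mem hA z hcw) hcz) hcw) (hpre u)]
    · rw [comm_pow hA (mul_mem (phi_mem hA z hcw) hcz) hcw, comm_pow hA (phi_mem hA z hcw) hcz,
        pi_phi hinvc hA z hcw, one_mul]
    · rw [phi_comp, ← hrt w a ha, phi_mul hA z (pow_mem hcw _) ha, phi_pow hA z hcw, ← hrt z a ha,
        comm_pow hA (mul_mem (phi_mem hA z hcw) hcz) hcw, comm_pow hA (phi_mem hA z hcw) hcz])
  have didem : ∀ z, z ∈ layer A → ∀ u, d z (d z u) = d z u := fun z hz u => Subtype.ext (by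
    set a := pre u
    have ha : a ∈ A := hpreA u
    set c := rt z a ha
    have hc : c ∈ A := hrtA z a ha
    set c' := rt z c hc
    have hc' : c' ∈ A := hrtA z c hc
    have hd1 : (d z u).1 = c ^ 2 ^ (e - 1) := rfl
    show (D z (d z u)).1 = _
    rw [spec z (d z u) c c' hc hc' hd1.symm (hrt z c hc).symm, hd1]
    have h4 : (c' * c) ^ 2 ^ 2 = 1 := by
      have h := phi_sq hA hz.2 ha
      rw [← hrt z a ha, phi_pow hA z hc, ← hrt z c hc, ← pow_mul, ← pow_mul] at h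
      rw [comm_pow hA hc' hc]; exact h
    have h5 := pow_small hA (by omega : 2 ≤ e - 1) h4
    rw [comm_pow hA hc' hc] at h5
    rw [eq_inv_of_mul_eq_one_left h5]
    exact inv_eq_of_mul_eq_one_right (pi_invol hA hc))
  have dequiv : ∀ (k : ↥K) z u, d (k.1 z) (act k u) = act k (d z u) := fun k z u => Subtype.ext (by
    show (D (k.1 z) (act k u)).1 = k.1 (D z u).1
    rw [spec z u _ _ (hpreA u) (hrtA z _ (hpreA u)) (hpre u) (hrt z _ _).symm, map_pow]
    refine spec _ _ (k.1 (pre u)) _ (hA.inv k.1 k.2 _ (hpreA u)) (hA.inv k.1 k.2 _ (hrtA z _ (hpreA u))) ?_ ?_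
    · rw [← map_pow, hpre]; rfl
    · rw [phi_apply_equiv, ← map_pow, hrt])
  have hdd : ∀ z w, z ∈ layer A → w ∈ layer A → ∀ u, d z (d w u) = d w (d z u) := fun z w hz hw u => by
    have h := didem (z * w) (layer_mul hA hz hw) u
    rw [dadd, dadd, map_mul, map_mul, didem z hz, didem w hw] at h
    have sq1 : ∀ x : ↥E, x⁻¹ = x := fun x => inv_eq_of_mul_eq_one_right (Subtype.ext x.2)
    have h' : d z (d w u) * d w (d z u) * (d z u * d w u) = 1 * (d z u * d w u) := by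
      rw [one_mul]; exact Eq.trans (by ac_rfl) h
    have h'' := mul_right_cancel h'
    rw [eq_inv_of_mul_eq_one_left h'', sq1]
  have dichot : ∀ z, z ∈ layer A → (∀ u, d z u = u) ∨ ∀ u, d z u = 1 := fun z hz => by
    refine idem_general act (fun u v hu hv => ?_) (d z) (didem z hz) (fun k u => ?_)
    · obtain ⟨k, hk, hkuv⟩ := htr u.1 v.1 (fun h => hu (Subtype.ext h)) u.2 (fun h => hv (Subtype.ext h)) v.2
      exact ⟨⟨k, hk⟩, Subtype.ext hkuv⟩
    · rw [← dequiv k z, ← dequiv k z, MulEquiv.apply_symm_apply, MulEquiv.apply_symm_apply]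
      exact hdd _ _ hz (layer_inv hA k.2 hz) u
  have zero_mem : ∀ z, z ∈ layer A → (∀ u, d z u = 1) → z ∈ A := by
    intro z hz h
    refine small_mem hinvc htr hpair hA he hC hz (descend_small hinvc htr hA he hz fun a ha => ?_)
    obtain ⟨c, hc, hca⟩ := root_pi hinvc htr hA (phi_mem hA z ha) (pi_phi hinvc hA z ha)
    have h1 := spec z ⟨a ^ 2 ^ (e - 1), pi_invol hA ha⟩ a c ha hc rfl hca.symm
    have h2 : (D z ⟨a ^ 2 ^ (e - 1), pi_invol hA ha⟩).1 = 1 := congrArg Subtype.val (h _)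
    obtain ⟨f, hf, hfc⟩ := root_pi hinvc htr hA hc (h1.symm.trans h2)
    exact ⟨f, hf, by rw [← hca, ← hfc, ← pow_mul, pow_two 2]⟩
  rcases dichot y hy with h1 | h1
  swap
  · exact zero_mem y hy h1
  have hgy := layer_inv hA hg hy
  rcases dichot (g y) hgy with h2 | h2
  swap
  · have hmem := zero_mem _ hgy h2
    have := hA.inv g⁻¹ (inv_mem hg) _ hmem
    rwa [MulAut.inv_apply_self] at this
  obtain ⟨n, hn⟩ : ∃ n, y⁻¹ = y ^ n := ⟨orderOf y - 1, inv_eq_of_mul_eq_one_right (by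
    rw [← pow_succ', Nat.sub_add_cancel (orderOf_pos y), pow_orderOf_eq_one])⟩
  have hyinv : y⁻¹ ∈ layer A := by
    rw [hn]; clear hn
    induction n with
    | zero => rw [pow_zero]; exact layer_one hA
    | succ n ih => rw [pow_succ]; exact layer_mul hA ih hy
  have hz : y⁻¹ * g y ∈ A := zero_mem _ (layer_mul hA hyinv hgy) fun u => by
    have h3 := dadd y (y⁻¹ * g y) u
    rw [mul_inv_cancel_left, h2 u, h1 u] at h3
    exact left_eq_mul.1 h3
  set a0 := y⁻¹ * g y with ha0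
  let t : A → A := fun b => ⟨g b.1 * b.1⁻¹, mul_mem (hA.inv g hg _ b.2) (inv_mem b.2)⟩
  have ht : Function.Surjective t := Finite.injective_iff_surjective.1 fun b b' hbb => by
    have h : g b.1 * b.1⁻¹ = g b'.1 * b'.1⁻¹ := congrArg Subtype.val hbb
    refine Subtype.ext ?_
    have : g (b.1⁻¹ * b'.1) = b.1⁻¹ * b'.1 := by
      rw [map_mul, map_inv]
      have h' : g b'.1 = g b.1 * b.1⁻¹ * b'.1 := by rw [h, inv_mul_cancel_right]
      rw [h']; group
    exact inv_mul_eq_one.1 (hfpf _ this)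
  obtain ⟨b, hb⟩ := ht ⟨a0⁻¹, inv_mem hz⟩
  have hb' : g b.1 * b.1⁻¹ = a0⁻¹ := congrArg Subtype.val hb
  have hfix : g (y * b.1) = y * b.1 := by
    rw [map_mul, show g y = y * a0 by rw [ha0, mul_inv_cancel_left], show g b.1 = a0⁻¹ * b.1 by rw [← hb', inv_mul_cancel_right]]
    group
  have := mul_eq_one_iff_eq_inv.1 (hfpf _ hfix)
  rw [this]; exact inv_mem b.2

end Group

end Cfsg.Agent.Solv.TwoAuto
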