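import Cfsg.Agent.S3360
import Cfsg.Agent.Lib.Solv.TwoAuto.Field
import Cfsg.Agent.Lib.Solv.TwoAuto.Group

/-!
Field coordinates on the involutions for an automorphism group of odd order transitive on them.
-/

set_option autoImplicit false

namespace Cfsg.Agent.Solv.TwoAuto

open Cfsg.Agent.Char

universe u

/-- Scalar and twist data on the involutions. -/
structure Coord {P : Type u} [Group P] (K : Subgroup (MulAut P)) (F : Type) [Field F] [Fintype F] [CharP F 2] where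
  n : ℕ
  e : ℕ
  hn : 2 ≤ n
  hF : Fintype.card F = 2 ^ n
  hen : e ∣ n
  c : Fˣ
  hc : e * orderOf c = 2 ^ n - 1
  g : MulAut P
  hg : g ∈ K
  ι : P → F
  ι_mul : ∀ u v, u * u = 1 → v * v = 1 → ι (u * v) = ι u + ι v
  ι_eq : ∀ u, u * u = 1 → ι u = 0 → u = 1
  ι_surj : ∀ t, ∃ u, u * u = 1 ∧ ι u = t
  scal : ∀ u, u * u = 1 → ι (g u) = (c : F) * ι u
  twist : n = 6 → e = 3 → ∃ (a : F) (i : ℕ), a ≠ 0 ∧ a ^ 21 ≠ 1 ∧ (i = 0 ∨ i = 2 ∨ i = 4) ∧
    ∃ k ∈ K, ∀ u, u * u = 1 → ι (k u) = a * ι u ^ 2 ^ i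

theorem ringEquiv_frob {F : Type*} [Field F] [Fintype F] [CharP F 2] {n : ℕ} (hF : Fintype.card F = 2 ^ n)
    (hn : n ≠ 0) (σ : F ≃+* F) : ∃ i < n, ∀ x, σ x = x ^ 2 ^ i := by
  haveI : Fact (Nat.Prime 2) := ⟨Nat.prime_two⟩
  letI : Algebra (ZMod 2) F := ZMod.algebra F 2
  haveI : Module.Finite (ZMod 2) F := Module.Finite.of_finite
  let f : F ≃ₐ[ZMod 2] F := AlgEquiv.ofRingEquiv (f := σ) (fun a => by
    rcases zmod_two_cases a with rfl | rfl <;> simp)
  obtain ⟨k, hk⟩ := (FiniteField.bijective_frobeniusAlgEquivOfAlgebraic_pow (ZMod 2) F).2 f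
  refine ⟨(k : ℕ) % n, Nat.mod_lt _ (Nat.pos_of_ne_zero hn), fun x => ?_⟩
  rw [← SuzukiField.pow_mod' hF]
  show f x = _
  rw [← hk]
  show (FiniteField.frobeniusAlgEquivOfAlgebraic (ZMod 2) F ^ (k : ℕ)) x = _
  rw [AlgEquiv.coe_pow, FiniteField.coe_frobeniusAlgEquivOfAlgebraic_iterate, Fintype.card_eq_nat_card, Nat.card_zmod]

theorem semi_unique {F : Type*} [Field F] [Fintype F] [CharP F 2] {n : ℕ} (hF : Fintype.card F = 2 ^ n)
    {a b : F} (ha : a ≠ 0) {i j : ℕ} (hi : i < n) (hj : j < n) (h : ∀ t : F, a * t ^ 2 ^ i = b * t ^ 2 ^ j) :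
    a = b ∧ i = j := by
  refine ⟨by simpa using h 1, ?_⟩
  by_contra hne
  have := SuzukiField.frob_indep hF (fun k => (if k = i then a else 0) + (if k = j then b else 0)) (fun t => by
    simp only [add_mul, Finset.sum_add_distrib, ite_mul, zero_mul, Finset.sum_ite_eq', Finset.mem_range, hi, hj,
      if_true, h t, CharTwo.add_self_eq_zero]) i hi
  simp [hne] at this
  exact ha this

theorem exists_coord {P : Type u} [Group P] [Finite P] (hinvc : ∀ x : P, x * x = 1 → x ∈ Subgroup.center P)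
    (htwo : ∃ x y : P, x ≠ y ∧ x ≠ 1 ∧ x * x = 1 ∧ y ≠ 1 ∧ y * y = 1) (K : Subgroup (MulAut P))
    (hodd : Odd (Nat.card K)) (hsol : Group.IsSolvable K)
    (htr : ∀ x y : P, x ≠ 1 → x * x = 1 → y ≠ 1 → y * y = 1 → ∃ k ∈ K, k x = y) :
    ∃ (F : Type) (_ : Field F) (_ : Fintype F) (_ : CharP F 2), Nonempty (Coord K F) := by
  classical
  haveI : Fact (Nat.Prime 2) := ⟨Nat.prime_two⟩
  obtain ⟨x1, x2, h12, hx1, hx1s, hx2, hx2s⟩ := htwo
  let E : Subgroup P :=
    { carrier := {u | u * u = 1}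
      one_mem' := mul_one 1
      mul_mem' := fun {a b} ha hb => by
        show a * b * (a * b) = 1
        have ha' : a * a = 1 := ha
        have hb' : b * b = 1 := hb
        rw [mul_assoc, ← mul_assoc b, Subgroup.mem_center_iff.1 (hinvc a ha') b, mul_assoc a, hb', mul_one, ha']
      inv_mem' := fun {a} ha => by
        show a⁻¹ * a⁻¹ = 1
        rw [← mul_inv_rev, show a * a = 1 from ha, inv_one] }
  letI : CommGroup ↥E := { (inferInstance : Group ↥E) with
    mul_comm := fun a b => Subtype.ext (Subgroup.mem_center_iff.1 (hinvc b.1 b.2) a.1) }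
  letI : Module (ZMod 2) (Additive ↥E) := AddCommGroup.zmodModule fun x => by
    rw [two_nsmul]
    exact Subtype.ext x.toMul.2
  haveI : Nontrivial (Additive ↥E) :=
    ⟨⟨Additive.ofMul ⟨x1, hx1s⟩, Additive.ofMul ⟨x2, hx2s⟩, fun h =>
      h12 (congrArg Subtype.val (Additive.ofMul.injective h))⟩⟩
  have hKE : ∀ (k : MulAut P) (u : P), u * u = 1 → k u * k u = 1 := fun k u hu => by rw [← map_mul, hu, map_one]
  let fadd : MulAut P → (Additive ↥E ≃+ Additive ↥E) := fun k =>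
    MulEquiv.toAdditive
      { toFun := fun u : ↥E => (⟨k u.1, hKE k u.1 u.2⟩ : ↥E)
        invFun := fun u => ⟨k.symm u.1, hKE k.symm u.1 u.2⟩
        left_inv := fun u => Subtype.ext (k.symm_apply_apply u.1)
        right_inv := fun u => Subtype.ext (k.apply_symm_apply u.1)
        map_mul' := fun u v => Subtype.ext (map_mul k u.1 v.1) }
  let lin : MulAut P → (Additive ↥E ≃ₗ[ZMod 2] Additive ↥E) := fun k =>
    LinearEquiv.ofLinear ((fadd k).toAddMonoidHom.toZModLinearMap 2) ((fadd k).symm.toAddMonoidHom.toZModLinearMap 2)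
      (LinearMap.ext fun x => (fadd k).apply_symm_apply x) (LinearMap.ext fun x => (fadd k).symm_apply_apply x)
  let ρ : ↥K →* (Additive ↥E ≃ₗ[ZMod 2] Additive ↥E) :=
    { toFun := fun k => lin k.1
      map_one' := LinearEquiv.ext fun _ => rfl
      map_mul' := fun _ _ => LinearEquiv.ext fun _ => rfl }
  haveI : Group.IsSolvable ↥K := hsol
  haveI : Finite ↥ρ.range := Finite.of_surjective _ ρ.rangeRestrict_surjective
  haveI hsolR : Group.IsSolvable ↥ρ.range :=
    solvable_of_surjective (f := ρ.rangeRestrict) ρ.rangeRestrict_surjective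
  have htr' : ∀ v w : Additive ↥E, v ≠ 0 → w ≠ 0 → ∃ g : ↥ρ.range, ρ.range.subtype g v = w := by
    intro v w hv hw
    obtain ⟨k, hk, hkv⟩ := htr v.toMul.1 w.toMul.1 (fun h => hv (congrArg Additive.ofMul (Subtype.ext h : v.toMul = 1)))
      v.toMul.2 (fun h => hw (congrArg Additive.ofMul (Subtype.ext h : w.toMul = 1))) w.toMul.2
    exact ⟨⟨_, ⟨k, hk⟩, rfl⟩, congrArg Additive.ofMul (Subtype.ext hkv : _ = w.toMul)⟩
  have heven : 2 ∣ Nat.card (Additive ↥E) := by
    rw [show Nat.card (Additive ↥E) = Nat.card ↥E from Nat.card_congr Additive.toMul]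
    have hord : orderOf (⟨x1, hx1s⟩ : ↥E) = 2 := orderOf_eq_prime (by rw [pow_two]; exact Subtype.ext hx1s)
      fun h => hx1 (congrArg Subtype.val h)
    exact hord ▸ orderOf_dvd_natCard _
  rcases Cfsg.Agent.S3360.result 2 hsolR ρ.range.subtype ρ.range.subtype_injective htr' with
    ⟨F, iF, iFF, eqv, hsemi⟩ | hex
  swap
  · exfalso
    simp only [Set.mem_insert_iff, Set.mem_singleton_iff] at hex
    omega
  letI := iF
  letI := iFF
  haveI hchar : CharP F 2 := by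
    refine CharTwo.of_one_ne_zero_of_two_eq_zero one_ne_zero ?_
    obtain ⟨v, hv⟩ := eqv.surjective 1
    rw [← one_add_one_eq_two, ← hv, ← map_add]
    rw [show v + v = 0 from congrArg Additive.ofMul (Subtype.ext v.toMul.2 : v.toMul * v.toMul = 1), map_zero]
  obtain ⟨n, -, hF'⟩ := FiniteField.card F 2
  set N : ℕ := n.1 with hNdef
  have hF : Fintype.card F = 2 ^ N := hF'
  have hcardE : Nat.card ↥E = 2 ^ N := by
    rw [← hF, ← Nat.card_eq_fintype_card]
    exact Nat.card_congr (Additive.ofMul.trans eqv.toEquiv)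
  have hn : 2 ≤ N := by
    by_contra h
    have h3 : 3 ≤ Nat.card ↥E := by
      haveI : Fintype ↥E := Fintype.ofFinite _
      rw [Nat.card_eq_fintype_card]
      exact Fintype.two_lt_card_iff.2 ⟨⟨x1, hx1s⟩, ⟨x2, hx2s⟩, 1, fun h => h12 (congrArg Subtype.val h),
        fun h => hx1 (congrArg Subtype.val h), fun h => hx2 (congrArg Subtype.val h)⟩
    have hn1 : N = 1 := by have := n.2; omega
    rw [hcardE, hn1] at h3
    norm_num at h3
  let ι : P → F := fun u => if h : u * u = 1 then eqv (Additive.ofMul ⟨u, h⟩) else 0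
  have hι : ∀ u (h : u * u = 1), ι u = eqv (Additive.ofMul ⟨u, h⟩) := fun u h => dif_pos h
  have hsurj : ∀ t, ∃ u, u * u = 1 ∧ ι u = t := fun t => ⟨(eqv.symm t).toMul.1, (eqv.symm t).toMul.2, by
    rw [hι _ (eqv.symm t).toMul.2]; exact eqv.apply_symm_apply t⟩
  have hadd : ∀ u v, u * u = 1 → v * v = 1 → ι (u * v) = ι u + ι v := fun u v hu hv => by
    rw [hι u hu, hι v hv, hι (u * v) (E.mul_mem (x := u) (y := v) hu hv), ← map_add]; rfl
  have hinj : ∀ u v, u * u = 1 → v * v = 1 → ι u = ι v → u = v := fun u v hu hv h => by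
    rw [hι u hu, hι v hv] at h
    exact congrArg Subtype.val (Additive.ofMul.injective (eqv.injective h))
  have hι1 : ι 1 = 0 := by
    have := hadd 1 1 (mul_one 1) (mul_one 1)
    rw [mul_one] at this
    exact left_eq_add.1 this
  have heq0 : ∀ u, u * u = 1 → ι u = 0 → u = 1 := fun u hu h => hinj u 1 hu (mul_one 1) (h.trans hι1.symm)
  have hsemiK : ∀ k : ↥K, ∃ (a : Fˣ) (i : ℕ), i < N ∧ ∀ u, u * u = 1 → ι (k.1 u) = (a : F) * ι u ^ 2 ^ i := by
    intro k
    obtain ⟨a, σ, ha⟩ := hsemi ⟨ρ k, k, rfl⟩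
    obtain ⟨i, hi, hσ⟩ := ringEquiv_frob hF (by omega) σ
    have hform : ∀ u, u * u = 1 → ι (k.1 u) = a * ι u ^ 2 ^ i := fun u hu => by
      rw [hι u hu, hι _ (hKE k.1 u hu), ← hσ]
      exact ha (Additive.ofMul (⟨u, hu⟩ : ↥E))
    have ha0 : a ≠ 0 := by
      intro h0
      have := hform x1 hx1s
      rw [h0, zero_mul] at this
      exact hx1 (k.1.injective ((heq0 _ (hKE k.1 x1 hx1s) this).trans (map_one k.1).symm))
    exact ⟨Units.mk0 a ha0, i, hi, hform⟩
  choose A I hI hAI using hsemiK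
  have huniq : ∀ (k : ↥K) (a : F) (i : ℕ), i < N → (∀ u, u * u = 1 → ι (k.1 u) = a * ι u ^ 2 ^ i) →
      (A k : F) = a ∧ I k = i := by
    intro k a i hi h
    refine semi_unique hF (A k).ne_zero (hI k) hi fun t => ?_
    obtain ⟨u, hu, rfl⟩ := hsurj t
    rw [← hAI k u hu, ← h u hu]
  have hmulK : ∀ k l : ↥K, I (k * l) = (I l + I k) % N ∧ (A (k * l) : F) = A k * (A l : F) ^ 2 ^ I k := by
    intro k l
    have h := huniq (k * l) ((A k : F) * (A l : F) ^ 2 ^ I k) ((I l + I k) % N) (Nat.mod_lt _ (by omega))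
      (fun u hu => by
        show ι (k.1 (l.1 u)) = _
        rw [hAI k _ (hKE l.1 u hu), hAI l u hu, mul_pow, ← pow_mul, ← pow_add, SuzukiField.pow_mod' hF (ι u) (I l + I k), ← mul_assoc])
    exact ⟨h.2, h.1⟩
  have hone : (A 1 : F) = 1 ∧ I 1 = 0 := huniq 1 1 0 (by omega) fun u _ => by
    rw [pow_zero, pow_one, one_mul]; rfl
  haveI : NeZero N := ⟨by omega⟩
  let Φ : ↥K →* Multiplicative (ZMod N) :=
    { toFun := fun k => Multiplicative.ofAdd (I k : ZMod N)
      map_one' := by rw [hone.2, Nat.cast_zero]; rfl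
      map_mul' := fun k l => by
        rw [(hmulK k l).1, ZMod.natCast_mod, Nat.cast_add, add_comm]; rfl }
  have hker : ∀ k : ↥K, k ∈ Φ.ker ↔ I k = 0 := fun k => by
    rw [MonoidHom.mem_ker]
    show Multiplicative.ofAdd (I k : ZMod N) = 1 ↔ _
    rw [ofAdd_eq_one, ZMod.natCast_eq_zero_iff]
    exact ⟨fun h => Nat.eq_zero_of_dvd_of_lt h (hI k), fun h => h ▸ dvd_zero N⟩
  let ψ : ↥Φ.ker →* Fˣ :=
    { toFun := fun k => A k.1
      map_one' := Units.ext (by exact hone.1)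
      map_mul' := fun k l => Units.ext (by
        show (A (k.1 * l.1) : F) = (A k.1 : F) * (A l.1 : F)
        rw [(hmulK k.1 l.1).2, (hker k.1).1 k.2, pow_zero, pow_one]) }
  obtain ⟨z1, hz1, hιz1⟩ := hsurj 1
  have hz11 : z1 ≠ 1 := fun h => by rw [h, hι1] at hιz1; exact zero_ne_one hιz1
  let B : Subgroup ↥K := MulAction.stabilizer ↥K z1
  have hBind : B.index = 2 ^ N - 1 := by
    rw [MulAction.index_stabilizer]
    have horb : MulAction.orbit ↥K z1 = {u : P | u * u = 1} \ {1} := by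
      ext u
      constructor
      · rintro ⟨k, rfl⟩
        exact ⟨hKE k.1 z1 hz1, fun h => hz11 (k.1.injective (h.trans (map_one k.1).symm))⟩
      · rintro ⟨hu, hu1⟩
        obtain ⟨k, hk, hku⟩ := htr z1 u hz11 hz1 hu1 hu
        exact ⟨⟨k, hk⟩, hku⟩
    rw [horb, Set.ncard_diff_singleton_of_mem (show (1 : P) ∈ {u : P | u * u = 1} from mul_one 1), ← hcardE]
    rfl
  have hψker : ψ.ker = B.subgroupOf Φ.ker := by
    ext k
    rw [MonoidHom.mem_ker, Subgroup.mem_subgroupOf, MulAction.mem_stabilizer_iff]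
    show A k.1 = 1 ↔ k.1.1 z1 = z1
    constructor
    · intro h
      refine hinj _ _ (hKE k.1.1 z1 hz1) hz1 ?_
      rw [hAI k.1 z1 hz1, h, hιz1, one_pow, Units.val_one, one_mul]
    · intro h
      have := hAI k.1 z1 hz1
      rw [h, hιz1, one_pow, mul_one] at this
      exact Units.ext this.symm
  have hNrange : Nat.card ψ.range = B.relIndex Φ.ker := by
    rw [Subgroup.relIndex, ← hψker, Subgroup.index_ker]
  have hcardU : Nat.card Fˣ = 2 ^ N - 1 := by
    rw [Nat.card_eq_fintype_card, Fintype.card_units, hF]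
  obtain ⟨e, he⟩ : Nat.card ψ.range ∣ 2 ^ N - 1 := hcardU ▸ Subgroup.card_subgroup_dvd_card _
  have hNpos : 0 < Nat.card ψ.range := Nat.card_pos
  have heN : e ∣ N := by
    have h1 := Subgroup.relIndex_mul_index (inf_le_right : B ⊓ Φ.ker ≤ Φ.ker)
    have h2 := Subgroup.relIndex_mul_index (inf_le_left : B ⊓ Φ.ker ≤ B)
    rw [Subgroup.inf_relIndex_right, ← hNrange] at h1
    rw [Subgroup.inf_relIndex_left, hBind, he] at h2
    have hs : Φ.ker.index ∣ N := by
      rw [Subgroup.index_ker]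
      have := Subgroup.card_subgroup_dvd_card Φ.range
      rwa [show Nat.card (Multiplicative (ZMod N)) = N from
        (Nat.card_congr Multiplicative.toAdd).trans (Nat.card_zmod N)] at this
    refine (Dvd.intro_left (Φ.ker.relIndex B) ?_).trans hs
    refine Nat.eq_of_mul_eq_mul_left hNpos ?_
    rw [h1, ← h2]
    ring
  obtain ⟨c, hc⟩ := IsCyclic.exists_ofOrder_eq_natCard (α := ↥ψ.range)
  obtain ⟨g0, hg0⟩ := c.2
  have hcord : e * orderOf (c : Fˣ) = 2 ^ N - 1 := by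
    rw [Subgroup.orderOf_coe, hc, he, mul_comm]
  have hg0' : ∀ u, u * u = 1 → ι (g0.1.1 u) = ((c : Fˣ) : F) * ι u := fun u hu => by
    rw [hAI g0.1 u hu, (hker g0.1).1 g0.2, pow_zero, pow_one, ← hg0]; rfl
  refine ⟨F, iF, iFF, hchar, ⟨{
    n := N
    e := e
    hn := hn
    hF := hF
    hen := heN
    c := c
    hc := hcord
    g := g0.1.1
    hg := g0.1.2
    ι := ι
    ι_mul := hadd
    ι_eq := heq0
    ι_surj := hsurj
    scal := hg0'
    twist := ?_ }⟩⟩
  intro hN6 he3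
  obtain ⟨x, hx⟩ : ∃ x : Fˣ, x ^ 21 ≠ 1 := by
    by_contra hall
    push Not at hall
    obtain ⟨y, hy⟩ := IsCyclic.exists_ofOrder_eq_natCard (α := Fˣ)
    have := Nat.le_of_dvd (by norm_num) (hy ▸ orderOf_dvd_of_pow_eq_one (hall y))
    rw [hcardU, hN6] at this
    norm_num at this
  obtain ⟨z, hz, hιz⟩ := hsurj (x : F)
  obtain ⟨k, hk, hkz⟩ := htr z1 z hz11 hz1 (fun h => by rw [h, hι1] at hιz; exact x.ne_zero hιz.symm) hz
  have hax : (A ⟨k, hk⟩ : F) = x := by
    have := hAI ⟨k, hk⟩ z1 hz1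
    rw [hιz1, one_pow, mul_one] at this
    rw [← this]
    show ι (k z1) = _
    rw [hkz, hιz]
  refine ⟨(x : F), I ⟨k, hk⟩, x.ne_zero, fun h => hx (Units.ext (by simpa using h)), ?_, k, hk,
    fun u hu => hax ▸ hAI ⟨k, hk⟩ u hu⟩
  have hd1 : orderOf (Φ ⟨k, hk⟩) ∣ Nat.card ↥K := (orderOf_map_dvd Φ _).trans (orderOf_dvd_natCard _)
  have hd2 : orderOf (Φ ⟨k, hk⟩) ∣ 6 := by
    rw [← hN6]
    have := orderOf_dvd_natCard (Φ ⟨k, hk⟩)
    rwa [show Nat.card (Multiplicative (ZMod N)) = N from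
      (Nat.card_congr Multiplicative.toAdd).trans (Nat.card_zmod N)] at this
  have hodd' : ¬ 2 ∣ orderOf (Φ ⟨k, hk⟩) := fun h =>
    (Nat.not_even_iff_odd.2 hodd) (even_iff_two_dvd.2 (h.trans hd1))
  have h3 : orderOf (Φ ⟨k, hk⟩) ∣ 3 := by
    have hco : Nat.Coprime (orderOf (Φ ⟨k, hk⟩)) 2 := ((Nat.prime_two.coprime_iff_not_dvd).2 hodd').symm
    exact hco.dvd_of_dvd_mul_left (show orderOf (Φ ⟨k, hk⟩) ∣ 2 * 3 from hd2)
  have h3' : ((3 * I ⟨k, hk⟩ : ℕ) : ZMod N) = 0 := by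
    have h := orderOf_dvd_iff_pow_eq_one.1 h3
    change Multiplicative.ofAdd (I ⟨k, hk⟩ : ZMod N) ^ 3 = 1 at h
    rw [← ofAdd_nsmul, ofAdd_eq_one, nsmul_eq_mul] at h
    exact_mod_cast h
  rw [ZMod.natCast_eq_zero_iff, hN6] at h3'
  have := hI ⟨k, hk⟩
  omega

end Cfsg.Agent.Solv.TwoAuto
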