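import Cfsg.Agent.Lib.Char.SuzukiTwoStruct
import Cfsg.Agent.Lib.Solv.TwoAuto.Setup

/-!
A two-group with a solvable automorphism group transitive on its involutions has central squares and
elementary abelian centre.
-/

set_option autoImplicit false

namespace Cfsg.Agent.Solv.TwoAuto

open Cfsg.Agent.Lie.SuzukiTwo
open Cfsg.Agent.Char.SuzukiStruct (invol_pow good_or_sq)
open Cfsg.Agent.Char

universe u

variable {P : Type u} [Group P]

theorem noPair (hinvc : ∀ x : P, x * x = 1 → x ∈ Subgroup.center P) {K : Subgroup (MulAut P)} {F : Type} [Field F] [Fintype F] [CharP F 2] (co : Coord K F) :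
    NoPair K := by
  classical
  intro b hb2 hbl hbr hbK hbd u v hu hv
  choose s hs hsι using co.ι_surj
  have hinv_mul : ∀ x y : P, x * x = 1 → y * y = 1 → co.ι x = co.ι y → x * y = 1 → x = y := fun x y hx hy _ hxy => by
    rw [eq_inv_of_mul_eq_one_left hxy]; exact inv_eq_of_mul_eq_one_right hy
  have hcomm : ∀ x y : P, x * x = 1 → y * y = 1 → (x * y) * (x * y) = 1 := by
    intro x y hx hy
    rw [mul_assoc, ← mul_assoc y, Subgroup.mem_center_iff.1 (hinvc x hx) y, mul_assoc x, hy, mul_one, hx]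
  have hinj : ∀ x y : P, x * x = 1 → y * y = 1 → co.ι x = co.ι y → x = y := fun x y hx hy h => by
    refine hinv_mul x y hx hy h (co.ι_eq _ (hcomm x y hx hy) ?_)
    rw [co.ι_mul x y hx hy, h, CharTwo.add_self_eq_zero]
  have hsadd : ∀ a a', s (a + a') = s a * s a' := fun a a' => hinj _ _ (hs _) (hcomm _ _ (hs a) (hs a'))
    (by rw [co.ι_mul _ _ (hs a) (hs a'), hsι, hsι, hsι])
  have hgs : ∀ a, co.g (s a) = s ((co.c : F) * a) := fun a => hinj _ _ (by rw [← map_mul, hs, map_one]) (hs _)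
    (by rw [co.scal _ (hs a), hsι, hsι])
  have h0 := pairing_zero co.hF co.hn co.hen co.c co.hc (fun a a' => co.ι (b (s a) (s a')))
    (fun a a' t => by
      rw [hsadd, hbl _ _ _ (hs a) (hs a') (hs t), co.ι_mul _ _ (hb2 _ _ (hs a) (hs t)) (hb2 _ _ (hs a') (hs t))])
    (fun t a a' => by
      rw [hsadd, hbr _ _ _ (hs t) (hs a) (hs a'), co.ι_mul _ _ (hb2 _ _ (hs t) (hs a)) (hb2 _ _ (hs t) (hs a'))])
    (fun a t => by rw [← hgs, ← hgs, hbK _ co.hg _ _ (hs a) (hs t), co.scal _ (hb2 _ _ (hs a) (hs t))])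
    (fun a => by
      rw [hbd _ (hs a)]
      have := co.ι_mul 1 1 (mul_one 1) (mul_one 1)
      rw [mul_one] at this
      exact left_eq_add.1 this)
    (co.ι u) (co.ι v)
  rw [hinj (s (co.ι u)) u (hs _) hu (hsι _), hinj (s (co.ι v)) v (hs _) hv (hsι _)] at h0
  exact co.ι_eq _ (hb2 u v hu hv) h0

theorem fixed_point_free (h2 : IsPGroup 2 P) {K : Subgroup (MulAut P)} {F : Type} [Field F] [Fintype F] [CharP F 2]
    (co : Coord K F) : ∀ x : P, co.g x = x → x = 1 := by
  intro x hx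
  by_contra hx1
  obtain ⟨m, hm1, hm2⟩ := invol_pow h2 x hx1
  have h := co.scal _ hm2
  rw [map_pow, hx] at h
  have hc1 : co.c = 1 := by
    refine Units.ext ?_
    have hne : co.ι (x ^ m) ≠ 0 := fun h0 => hm1 (co.ι_eq _ hm2 h0)
    exact mul_right_cancel₀ hne (by rw [Units.val_one, one_mul]; exact h.symm)
  have he := co.hc
  rw [hc1, orderOf_one, mul_one] at he
  have hle := Nat.le_of_dvd (by have := co.hn; omega) co.hen
  have h3 : ∀ j, 2 ≤ j → j + 1 < 2 ^ j := by
    intro j hj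
    induction j, hj using Nat.le_induction with
    | base => norm_num
    | succ j hj ih => rw [pow_succ]; omega
  have := h3 co.n co.hn
  omega

/-- Either squares are central or there is a self-centralising homocyclic subgroup. -/
theorem selfcent_or_sq' [Finite P] (h2 : IsPGroup 2 P) (hnab : ∃ x y : P, x * y ≠ y * x) (K : Subgroup (MulAut P))
    (hinvc : ∀ x : P, x * x = 1 → x ∈ Subgroup.center P) (hz : ∀ z ∈ Subgroup.center P, z * z = 1)
    (htr : ∀ x y : P, x ≠ 1 → x * x = 1 → y ≠ 1 → y * y = 1 → ∃ k ∈ K, k x = y)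
    (hpair : NoPair K) {g : MulAut P} (hg : g ∈ K) (hfpf : ∀ x : P, g x = x → x = 1) :
    (∀ x : P, x * x ∈ Subgroup.center P) ∨
      ∃ A : Subgroup P, Good K A 2 ∧ ∀ y : P, (∀ a ∈ A, phi y a = 1) → y ∈ A := by
  classical
  rcases good_or_sq h2 K hinvc hz with h | ⟨A0, hA0⟩
  · exact Or.inl h
  right
  obtain ⟨A, hA, hmax⟩ := Set.Finite.exists_maximalFor (fun A : Subgroup P => Nat.card A)
    {A : Subgroup P | ∃ e, Good K A e} (Set.toFinite _) ⟨A0, 2, hA0⟩
  obtain ⟨e, hA⟩ := hA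
  haveI := hA.normal
  have hC : ∀ y : P, (∀ a ∈ A, phi y a = 1) → y ∈ A := by
    by_contra h
    push Not at h
    obtain ⟨y0, hy0, hy0A⟩ := h
    let C := Subgroup.centralizer (A : Set P)
    have hmemC : y0 ∈ C := Subgroup.mem_centralizer_iff.2 fun b hb => by
      have := hy0 b hb
      simp only [phi] at this
      rw [mul_inv_eq_one, mul_inv_eq_iff_eq_mul] at this
      exact this.symm
    have hAC : A < C := lt_of_le_of_ne (fun a ha => Subgroup.mem_centralizer_iff.2 fun b hb => hA.comm b hb a ha)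
      fun h => hy0A (h ▸ hmemC)
    obtain ⟨y, hyC, hyl, hyA⟩ := exists_layer h2 A C hAC
    obtain ⟨A', e', hA', hlt⟩ := TwoAuto.enlarge hinvc htr hpair hA hyl hyA fun a ha => by
      simp only [phi]
      rw [← Subgroup.mem_centralizer_iff.1 hyC a ha, mul_inv_cancel_right, mul_inv_cancel]
    have hc : Nat.card A < Nat.card A' := Set.ncard_lt_ncard hlt (Set.toFinite _)
    exact absurd (hmax ⟨e', hA'⟩ hc.le) (not_le.2 hc)
  have hne_top : A ≠ ⊤ := fun h => by
    obtain ⟨x, y, hxy⟩ := hnab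
    exact hxy (hA.comm x (h ▸ trivial) y (h ▸ trivial))
  have he : e = 2 := by
    by_contra h
    obtain ⟨y, -, hyl, hyA⟩ := exists_layer h2 A ⊤ (lt_top_iff_ne_top.2 hne_top)
    exact hyA (TwoAuto.no_good hinvc htr hpair hA (by have := hA.he; omega) hC hg hfpf hyl)
  subst he
  exact ⟨A, hA, hC⟩

/-- The centre is elementary abelian. -/
theorem center_sq [Finite P] (h2 : IsPGroup 2 P) (hnab : ∃ x y : P, x * y ≠ y * x) (K : Subgroup (MulAut P))
    (hinvc : ∀ x : P, x * x = 1 → x ∈ Subgroup.center P)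
    (htr : ∀ x y : P, x ≠ 1 → x * x = 1 → y ≠ 1 → y * y = 1 → ∃ k ∈ K, k x = y)
    (hpair : NoPair K) {g : MulAut P} (hgK : g ∈ K) (hfpf : ∀ x : P, g x = x → x = 1) :
    ∀ z ∈ Subgroup.center P, z * z = 1 := by
  classical
  by_contra hcon
  push Not at hcon
  obtain ⟨z0, hz0, hz0s⟩ := hcon
  -- exponent of the centre
  have hex : ∃ f, ∀ z ∈ Subgroup.center P, z ^ 2 ^ f = 1 := by
    obtain ⟨m, hm⟩ := IsPGroup.iff_card.1 h2
    exact ⟨m, fun z _ => by rw [← hm]; exact pow_card_eq_one'⟩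
  let f := Nat.find hex
  have hf : 2 ≤ f := by
    by_contra h
    have hle : 2 ^ f ∣ 2 := by
      have := Nat.pow_dvd_pow 2 (by omega : f ≤ 1)
      simpa using this
    obtain ⟨r, hr⟩ := hle
    exact hz0s (by rw [← pow_two]; conv_lhs => rw [hr, pow_mul, Nat.find_spec hex z0 hz0, one_pow])
  have hcinv : ∀ k ∈ K, ∀ a ∈ Subgroup.center P, k a ∈ Subgroup.center P := fun k _ a ha => by
    rw [Subgroup.mem_center_iff]
    intro w
    obtain ⟨w, rfl⟩ := k.surjective w
    rw [← map_mul, ← map_mul, Subgroup.mem_center_iff.1 ha w]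
  have hgood : Good K (Subgroup.center P) f :=
    ⟨inferInstance, fun a ha b _ => (Subgroup.mem_center_iff.1 ha b).symm, hcinv, le_rfl, hf, Nat.find_spec hex, by
      by_contra h
      push Not at h
      exact Nat.find_min hex (by omega : f - 1 < f) h⟩
  let 𝒜 : Set (Subgroup P) := {A | ∃ e, Good K A e}
  obtain ⟨A, hA, hmax⟩ := Set.Finite.exists_maximalFor (fun A : Subgroup P => Nat.card A) 𝒜 (Set.toFinite 𝒜)
    ⟨_, f, hgood⟩
  obtain ⟨e, hA⟩ := hA
  haveI := hA.normal
  -- `A` is its own centraliser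
  have hC : ∀ y : P, (∀ a ∈ A, phi y a = 1) → y ∈ A := by
    by_contra h
    push Not at h
    obtain ⟨y0, hy0, hy0A⟩ := h
    let C := Subgroup.centralizer (A : Set P)
    haveI : C.Normal := inferInstance
    have hAC : A < C := lt_of_le_of_ne (fun a ha => Subgroup.mem_centralizer_iff.2 fun b hb => hA.comm b hb a ha)
      fun h => hy0A (h ▸ Subgroup.mem_centralizer_iff.2 fun b hb => by
        have := hy0 b hb
        simp only [phi] at this
        rw [mul_inv_eq_one, mul_inv_eq_iff_eq_mul] at this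
        exact this.symm)
    obtain ⟨y, hyC, hyl, hyA⟩ := exists_layer h2 A C hAC
    obtain ⟨A', e', hA', hlt⟩ := TwoAuto.enlarge hinvc htr hpair hA hyl hyA fun a ha => by
      simp only [phi]
      rw [← Subgroup.mem_centralizer_iff.1 hyC a ha, mul_inv_cancel_right, mul_inv_cancel]
    have hc : Nat.card A < Nat.card A' := Set.ncard_lt_ncard hlt (Set.toFinite _)
    exact absurd (hmax ⟨e', hA'⟩ hc.le) (not_le.2 hc)
  have hne_top : A ≠ ⊤ := fun h => by
    obtain ⟨x, y, hxy⟩ := hnab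
    exact hxy (hA.comm x (h ▸ trivial) y (h ▸ trivial))
  have he : 3 ≤ e := by
    by_contra h
    have he2 : e = 2 := by have := hA.he; omega
    subst he2
    have hAZ : A ≤ Subgroup.center P := fun a ha => by
      by_cases hu : a * a = 1
      · exact hinvc a hu
      have hu2 : (a * a) * (a * a) = 1 := by
        have := hA.exp a ha
        rw [← pow_two, ← pow_two, ← pow_mul]; exact this
      have hz0e : z0 * z0 * (z0 * z0) = 1 := by
        have := hA.exp z0 (hA.center_le hz0)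
        rw [← pow_two, ← pow_two, ← pow_mul]; exact this
      obtain ⟨k, hk, hkz⟩ := htr _ _ hz0s hz0e hu hu2
      have hzk := hcinv k hk z0 hz0
      have hsq : ((k z0)⁻¹ * a) * ((k z0)⁻¹ * a) = 1 := by
        rw [← pow_two, comm_pow hA (inv_mem (hA.center_le hzk)) ha, inv_pow, pow_two, pow_two, ← map_mul, hkz, inv_mul_cancel]
      have := mul_mem hzk (hinvc _ hsq)
      rwa [mul_inv_cancel_left] at this
    refine hne_top (top_le_iff.1 fun x _ => hC x fun a ha => ?_)
    simp only [phi]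
    rw [Subgroup.mem_center_iff.1 (hAZ ha) x, mul_inv_cancel_right, mul_inv_cancel]
  obtain ⟨y, -, hyl, hyA⟩ := exists_layer h2 A ⊤ (lt_top_iff_ne_top.2 hne_top)
  exact hyA (TwoAuto.no_good hinvc htr hpair hA he hC hgK hfpf hyl)

/-- Squares are central. -/
theorem sq_central' [Finite P] (h2 : IsPGroup 2 P) (hnab : ∃ x y : P, x * y ≠ y * x) (K : Subgroup (MulAut P))
    (hinvc : ∀ x : P, x * x = 1 → x ∈ Subgroup.center P) (hzc : ∀ z ∈ Subgroup.center P, z * z = 1)
    (htr : ∀ x y : P, x ≠ 1 → x * x = 1 → y ≠ 1 → y * y = 1 → ∃ k ∈ K, k x = y)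
    {F : Type} [Field F] [Fintype F] [CharP F 2] (co : Coord K F) : ∀ x : P, x * x ∈ Subgroup.center P := by
  classical
  have hpair := noPair hinvc co
  have hfpf := fixed_point_free h2 co
  rcases selfcent_or_sq' h2 hnab K hinvc hzc htr hpair co.hg hfpf with h | ⟨A, hA, hC⟩
  · exact h
  set ι := co.ι
  have hadd : ∀ z ∈ Subgroup.center P, ∀ w ∈ Subgroup.center P, ι (z * w) = ι z + ι w := fun z hz w hw =>
    co.ι_mul z w (hzc z hz) (hzc w hw)
  have hinj : ∀ z ∈ Subgroup.center P, ι z = 0 → z = 1 := fun z hz => co.ι_eq z (hzc z hz)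
  have hsurj : ∀ t, ∃ z ∈ Subgroup.center P, ι z = t := fun t => by
    obtain ⟨u, hu, hut⟩ := co.ι_surj t
    exact ⟨u, hinvc u hu, hut⟩
  have hA4 : ∀ a ∈ A, a * a ∈ Subgroup.center P := fun a ha => hinvc _ (by
    have := hA.exp a ha
    rw [← pow_two, ← pow_two, ← pow_mul]; exact this)
  have hι1 : ι 1 = 0 := by
    have := hadd 1 (one_mem _) 1 (one_mem _)
    rw [mul_one] at this
    exact left_eq_add.1 this
  have hphiA : ∀ x, ∀ a ∈ A, phi x a ∈ Subgroup.center P := fun x a ha => hinvc _ (by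
    rw [← phi_mul hA x ha ha]; exact phi_central hinvc x (hzc _ (hA4 a ha)))
  have hphi2 : ∀ x y, ∀ a ∈ A, phi (x * y) a = phi x a * phi y a := fun x y a ha => by
    rw [phi_comp, phi_mul hA x (phi_mem hA y ha) ha, phi_central hinvc x (hzc _ (hphiA y a ha)), one_mul]
  let s2 : P → F := fun a => ι (a * a)
  have hs2 : ∀ a ∈ A, ∀ b ∈ A, s2 (a * b) = s2 a + s2 b := fun a ha b hb => by
    have : a * b * (a * b) = a * a * (b * b) := by
      rw [mul_assoc a b, ← mul_assoc b a b, hA.comm b hb a ha]; group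
    simp only [s2]
    rw [this, hadd _ (hA4 a ha) _ (hA4 b hb)]
  have hs2c : ∀ z ∈ Subgroup.center P, s2 z = 0 := fun z hz => by simp only [s2, hzc z hz, hι1]
  have hroot : ∀ t, ∃ a ∈ A, s2 a = t := fun t => by
    obtain ⟨z, hz, rfl⟩ := hsurj t
    obtain ⟨c, hc, hcz⟩ := sq_one_root hinvc htr hA (hzc z hz)
    refine ⟨c, hc, ?_⟩
    simp only [s2]
    rw [← pow_two]
    simpa using congrArg ι hcz
  choose r hrA hr using hroot
  let D : P → F → F := fun x t => ι (phi x (r t))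
  have hkey : ∀ x, ∀ a ∈ A, ι (phi x a) = D x (s2 a) := by
    intro x a ha
    set b := r (s2 a)
    have hb : b ∈ A := hrA _
    have hu : (b⁻¹ * a) * (b⁻¹ * a) = 1 := by
      have h1 := hs2 b⁻¹ (inv_mem hb) a ha
      have h2' := hs2 b⁻¹ (inv_mem hb) b hb
      rw [inv_mul_cancel, hs2c 1 (one_mem _), hr] at h2'
      rw [← h2'] at h1
      exact hinj _ (hA4 _ (mul_mem (inv_mem hb) ha)) h1
    conv_lhs => rw [← mul_inv_cancel_left b a]
    rw [phi_mul hA x hb (mul_mem (inv_mem hb) ha), phi_central hinvc x hu, mul_one]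
  have hDadd : ∀ x s t, D x (s + t) = D x s + D x t := by
    intro x s t
    have h := hkey x _ (mul_mem (hrA s) (hrA t))
    rw [hs2 _ (hrA s) _ (hrA t), hr, hr, phi_mul hA x (hrA s) (hrA t),
      hadd _ (hphiA x _ (hrA s)) _ (hphiA x _ (hrA t))] at h
    exact h.symm
  have hDmul : ∀ x y, D (x * y) = D x + D y := fun x y => by
    funext t
    simp only [D, Pi.add_apply]
    rw [hphi2 x y _ (hrA t), hadd _ (hphiA x _ (hrA t)) _ (hphiA y _ (hrA t))]
  have hD1 : D 1 = 0 := by funext t; simp [D, phi, hι1]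
  have hDinv : ∀ x, D x⁻¹ = D x := fun x => by
    have := hDmul x⁻¹ x
    rw [inv_mul_cancel, hD1] at this
    funext t
    exact CharTwo.add_eq_zero.1 (congrFun this t).symm
  have hDA : ∀ a ∈ A, D a = 0 := fun a ha => by
    funext t; simp only [D, phi_one_of_mem hA ha (hrA t), hι1, Pi.zero_apply]
  have hDker : ∀ x, D x = 0 → x ∈ A := fun x hx => hC x fun a ha =>
    hinj _ (hphiA x a ha) (by rw [hkey x a ha, hx]; rfl)
  have hsqA : ∀ x, x * x ∈ A := fun x => hDker _ (by
    rw [hDmul]; funext t; exact CharTwo.add_self_eq_zero _)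
  have hcA : ∀ x y, x⁻¹ * y * x * y⁻¹ ∈ A := fun x y => hDker _ (by
    rw [hDmul, hDmul, hDmul, hDinv, hDinv]
    funext t
    simp only [Pi.add_apply, Pi.zero_apply]
    linear_combination (D x t + D y t) * (CharTwo.two_eq_zero : (2 : F) = 0))
  -- the invariant squaring map
  let qq : P → F := fun x => s2 (x * x)
  let cc : P → P → F := fun x y => s2 (x⁻¹ * y * x * y⁻¹)
  have hqq : ∀ x y, qq (x * y) = qq x + qq y + cc x y := by
    intro x y
    simp only [qq, cc]
    rw [sq_prod, hs2 _ (hsqA x) _ (mul_mem (hcA x y) (hsqA y)), hs2 _ (hcA x y) _ (hsqA y)]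
    ring
  have hDq : ∀ x, D x (qq x) = 0 := fun x => by
    simp only [qq]
    rw [← hkey x _ (hsqA x)]
    rw [show phi x (x * x) = 1 by simp only [phi]; group]
    exact hι1
  have hqA : ∀ a ∈ A, qq a = 0 := fun a ha => hs2c _ (hA4 a ha)
  have hphis : ∀ x, ∀ a ∈ A, s2 (phi x a * a) = s2 a := fun x a ha => by
    rw [hs2 _ (phi_mem hA x ha) a ha, hs2c _ (hphiA x a ha), zero_add]
  have hccl : ∀ x x' y, cc (x * x') y = cc x y + cc x' y := by
    intro x x' y
    simp only [cc]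
    rw [show (x * x')⁻¹ * y * (x * x') * y⁻¹ = (phi x'⁻¹ (x⁻¹ * y * x * y⁻¹) * (x⁻¹ * y * x * y⁻¹)) *
        (x'⁻¹ * y * x' * y⁻¹) by simp only [phi]; group,
      hs2 _ (mul_mem (phi_mem hA _ (hcA x y)) (hcA x y)) _ (hcA x' y), hphis _ _ (hcA x y)]
  have hccr : ∀ x y y', cc x (y * y') = cc x y + cc x y' := by
    intro x y y'
    simp only [cc]
    rw [show x⁻¹ * (y * y') * x * (y * y')⁻¹ = (x⁻¹ * y * x * y⁻¹) *
        (phi y (x⁻¹ * y' * x * y'⁻¹) * (x⁻¹ * y' * x * y'⁻¹)) by simp only [phi]; group,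
      hs2 _ (hcA x y) _ (mul_mem (phi_mem hA _ (hcA x y')) (hcA x y')), hphis _ _ (hcA x y')]
  have hccA : ∀ a ∈ A, ∀ y, cc a y = 0 ∧ cc y a = 0 := by
    intro a ha y
    constructor
    · show s2 (a⁻¹ * y * a * y⁻¹) = 0
      rw [show a⁻¹ * y * a * y⁻¹ = a⁻¹ * (phi y a * a) by simp only [phi]; group,
        hs2 _ (inv_mem ha) _ (mul_mem (phi_mem hA y ha) ha), hphis y a ha, ← hs2 _ (inv_mem ha) _ ha, inv_mul_cancel,
        hs2c 1 (one_mem _)]
    · show s2 (y⁻¹ * a * y * a⁻¹) = 0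
      rw [show y⁻¹ * a * y * a⁻¹ = phi y⁻¹ a by simp only [phi]; group]
      exact hs2c _ (hphiA _ a ha)
  have hDeq : ∀ x x', D x = D x' → x⁻¹ * x' ∈ A := fun x x' h => hDker _ (by
    rw [hDmul, hDinv, h]; funext t; exact CharTwo.add_self_eq_zero _)
  have hcceql : ∀ x x' y, D x = D x' → cc x' y = cc x y := fun x x' y h => by
    conv_lhs => rw [← mul_inv_cancel_left x x']
    rw [hccl, (hccA _ (hDeq x x' h) y).1, add_zero]
  have hcceqr : ∀ y x x', D x = D x' → cc y x' = cc y x := fun y x x' h => by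
    conv_lhs => rw [← mul_inv_cancel_left x x']
    rw [hccr, (hccA _ (hDeq x x' h) y).2, add_zero]
  -- the operators
  have hDk : ∀ k ∈ K, ∀ (a : F) (i : ℕ), (∀ u, u * u = 1 → ι (k u) = a * ι u ^ 2 ^ i) →
      ∀ x t, D (k x) (a * t ^ 2 ^ i) = a * D x t ^ 2 ^ i := by
    intro k hk a i hki x t
    have h := hkey (k x) (k (r t)) (hA.inv k hk _ (hrA t))
    rw [phi_apply_equiv, hki _ (hzc _ (hphiA x _ (hrA t)))] at h
    simp only [s2] at h
    rw [← map_mul, hki _ (hzc _ (hA4 _ (hrA t))), show ι (r t * r t) = t from hr t] at h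
    exact h.symm
  have hgD : ∀ x t, D (co.g x) ((co.c : F) * t) = (co.c : F) * D x t := fun x t => by
    simpa using hDk co.g co.hg (co.c : F) 0 (fun u hu => by simpa using co.scal u hu) x t
  have hno0 : ∀ x u, (D x = fun t => u * t) → u = 0 := by
    intro x u hx
    have hgx : D (co.g x) = D x := funext fun s => by
      have h := hgD x ((co.c : F)⁻¹ * s)
      rw [mul_inv_cancel_left₀ co.c.ne_zero] at h
      rw [h, hx]
      show (co.c : F) * (u * ((co.c : F)⁻¹ * s)) = u * s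
      field_simp
    have ha := hDeq x (co.g x) hgx.symm
    let tmap : A → A := fun b => ⟨b.1⁻¹ * co.g b.1, mul_mem (inv_mem b.2) (hA.inv co.g co.hg _ b.2)⟩
    have hinjG : ∀ b c : P, b⁻¹ * co.g b = c⁻¹ * co.g c → b = c := fun b c h => by
      have : co.g (b * c⁻¹) = b * c⁻¹ := by
        rw [map_mul, map_inv, show co.g b = b * (c⁻¹ * co.g c) by rw [← h, mul_inv_cancel_left]]; group
      exact mul_inv_eq_one.1 (hfpf _ this)
    have ht : Function.Surjective tmap := Finite.injective_iff_surjective.1 fun b c h =>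
      Subtype.ext (hinjG _ _ (congrArg Subtype.val h))
    obtain ⟨b, hb⟩ := ht ⟨_, ha⟩
    have hbx : b.1 = x := hinjG _ _ (congrArg Subtype.val hb)
    have := congrFun ((hDA x (hbx ▸ b.2)).symm.trans hx) 1
    simp only [Pi.zero_apply, mul_one] at this
    exact this.symm
  have hall := quad_zero co.hF co.hn co.hen co.c co.hc D qq cc hDadd hDmul hqq hccl hccr hDq
    (fun x hx => ⟨hqA x (hDker x hx), fun y => hccA x (hDker x hx) y⟩) hno0 (fun x => ⟨co.g x, hgD x⟩)
    (fun h6 h3 => by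
      obtain ⟨a, i, ha, ha21, hi, k, hk, hki⟩ := co.twist h6 h3
      exact ⟨a, i, ha, ha21, hi, fun x => ⟨k x, hDk k hk a i hki x⟩⟩)
  exact fun x => hinvc _ (hinj _ (hA4 _ (hsqA x)) (hall x))

end Cfsg.Agent.Solv.TwoAuto
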